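import Cfsg.Prelude.Def_LocalEven
import Cfsg.Agent.Coprime.Action
import Mathlib.GroupTheory.SpecificGroups.Dihedral

/-!
# Involvement: transport lemmas, dihedral sections, inverted elements

* `involves_of_surjective`, `exists_surjective_of_involves'`, `involves_of_hom`: transport of sections.
* `exists_inverted_not_mem`: a 2-element acting nontrivially on a `p`-group modulo a normalised
  subgroup `M` has a power inverting some element outside `M`.
* `involves_dihedral_of_inverted`, `exists_twisted_of_surjective`.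
-/

set_option autoImplicit false

namespace CfsgLib.LocalEven

open Subgroup

variable {G : Type*} [Group G]

theorem involves_of_surjective {H : Type*} [Group H] (K : Subgroup G) (f : ↥K →* H)
    (hf : Function.Surjective f) : Cfsg.Involves H G := by
  have e : (f.ker.map K.subtype).subgroupOf K = f.ker :=
    comap_map_eq_self_of_injective K.subtype_injective _
  have hN : ((f.ker.map K.subtype).subgroupOf K).Normal := e.symm ▸ f.normal_ker
  exact ⟨K, f.ker.map K.subtype, hN, ⟨(QuotientGroup.quotientMulEquivOfEq e).trans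
    (QuotientGroup.quotientKerEquivOfSurjective f hf)⟩⟩

theorem exists_surjective_of_involves' {H : Type*} [Group H] (h : Cfsg.Involves H G) :
    ∃ (K : Subgroup G) (f : ↥K →* H), Function.Surjective f := by
  obtain ⟨K, R, hR, ⟨e⟩⟩ := h
  exact ⟨K, e.toMonoidHom.comp (QuotientGroup.mk' (R.subgroupOf K)),
    e.surjective.comp (QuotientGroup.mk'_surjective _)⟩

/-- A section of a subgroup of a homomorphic image is a section of the group. -/
theorem involves_of_hom {G' H : Type*} [Group G'] [Group H] (L : Subgroup G) (f : ↥L →* G')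
    (hf : Function.Surjective f) (h : Cfsg.Involves H G') : Cfsg.Involves H G := by
  obtain ⟨K, g, hg⟩ := exists_surjective_of_involves' h
  set K' := (K.comap f).map L.subtype with hK'
  let e : ↥(K.comap f) ≃* ↥K' := (K.comap f).equivMapOfInjective L.subtype L.subtype_injective
  refine involves_of_surjective K' ((g.comp (f.subgroupComap K)).comp e.symm.toMonoidHom) ?_
  exact (hg.comp (MonoidHom.subgroupComap_surjective_of_surjective f K hf)).comp e.symm.surjective

lemma exists_orderOf_eq_pow_of_mem_zpowers {q : ℕ} [Fact q.Prime] {x z : G}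
    (hz : z ∈ zpowers x) {k : ℕ} (hx : orderOf x = q ^ k) : ∃ i, orderOf z = q ^ i := by
  have h : orderOf z ∣ q ^ k := by
    obtain ⟨i, rfl⟩ := mem_zpowers_iff.mp hz
    refine orderOf_dvd_of_pow_eq_one ?_
    rw [← hx, ← zpow_natCast, ← zpow_mul, mul_comm, zpow_mul, zpow_natCast, pow_orderOf_eq_one,
      one_zpow]
  obtain ⟨i, -, hi⟩ := (Nat.dvd_prime_pow Fact.out).mp h
  exact ⟨i, hi⟩

lemma exists_pow_step {p : ℕ} {M : Subgroup G} {y : G} {k : ℕ}
    (hk : orderOf y = p ^ k) (hy : y ∉ M) : ∃ i, y ^ p ^ i ∉ M ∧ (y ^ p ^ i) ^ p ∈ M := by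
  classical
  have hex : ∃ i, y ^ p ^ i ∈ M := ⟨k, by rw [← hk, pow_orderOf_eq_one]; exact one_mem M⟩
  obtain ⟨i, hi⟩ : ∃ i, Nat.find hex = i + 1 :=
    Nat.exists_eq_add_one.mpr (Nat.pos_of_ne_zero fun h => hy (by
      have := Nat.find_spec hex; rwa [h, pow_zero, pow_one] at this))
  refine ⟨i, Nat.find_min hex (by omega), ?_⟩
  rw [← pow_mul, ← pow_succ, ← hi]
  exact Nat.find_spec hex

variable [Finite G] {p : ℕ} [Fact p.Prime]

/-- A `2`-element acting nontrivially modulo `M` on a `p`-group has a power inverting an element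
of that group outside `M`. -/
theorem exists_inverted_not_mem (hp : p ≠ 2) {P M : Subgroup G} (hP : IsPGroup p ↥P) {x : G}
    (hx2 : ∃ k, orderOf x = 2 ^ k) (hxP : x ∈ Subgroup.normalizer (P : Set G))
    (hxM : x ∈ Subgroup.normalizer (M : Set G))
    (hnc : ∃ u ∈ P, u⁻¹ * x * u * x⁻¹ ∉ M) :
    ∃ z ∈ zpowers x, ∃ y ∈ P, y ∉ M ∧ z * y * z⁻¹ = y⁻¹ := by
  classical
  obtain ⟨k, hk⟩ := hx2
  have hex : ∃ j, ∀ u ∈ P, u⁻¹ * x ^ 2 ^ j * u * (x ^ 2 ^ j)⁻¹ ∈ M :=
    ⟨k, fun u _ => by rw [← hk, pow_orderOf_eq_one]; simp⟩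
  obtain ⟨i, hi⟩ : ∃ i, Nat.find hex = i + 1 := Nat.exists_eq_add_one.mpr
    (Nat.pos_of_ne_zero fun h => by
      obtain ⟨u, hu, hn⟩ := hnc
      exact hn (by simpa [h] using Nat.find_spec hex u hu))
  have hfail := Nat.find_min hex (show i < Nat.find hex by omega)
  push Not at hfail
  obtain ⟨u, hu, hnu⟩ := hfail
  set z := x ^ 2 ^ i with hz
  have hzP : z ∈ Subgroup.normalizer (P : Set G) := pow_mem hxP _
  have hzM : z ∈ Subgroup.normalizer (M : Set G) := pow_mem hxM _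
  have hsq : ∀ v ∈ P, v⁻¹ * z ^ 2 * v * (z ^ 2)⁻¹ ∈ M := by
    intro v hv
    have := Nat.find_spec hex v hv
    rwa [hi, pow_succ, pow_mul, ← hz] at this
  set B := zpowers (z ^ 2) with hB
  have hBn : B ≤ Subgroup.normalizer ((P ⊓ M : Subgroup G) : Set G) := zpowers_le.mpr
    (pow_mem (inf_normalizer_le_normalizer_inf (mem_inf.mpr ⟨hzP, hzM⟩)) 2)
  have hfix : ∀ a ∈ B, u⁻¹ * (a * u * a⁻¹) ∈ P ⊓ M := by
    intro a ha
    obtain ⟨n, rfl⟩ : ∃ n : ℕ, (z ^ 2) ^ n = a := by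
      rwa [hB, ← mem_powers_iff_mem_zpowers] at ha
    induction n with
    | zero => simp
    | succ n ih =>
      have ih' := ih (by rw [hB, ← mem_powers_iff_mem_zpowers]; exact ⟨n, rfl⟩)
      have hw : u⁻¹ * (z ^ 2 * u * (z ^ 2)⁻¹) ∈ P ⊓ M :=
        mem_inf.mpr ⟨mul_mem (inv_mem hu) ((mem_normalizer_iff.mp (pow_mem hzP 2) u).mp hu),
          by simpa [mul_assoc] using hsq u hu⟩
      have hc := (mem_normalizer_iff.mp (hBn (pow_mem (mem_zpowers _) n)) _).mp hw
      have := mul_mem ih' hc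
      convert this using 1
      rw [pow_succ]
      group
  have hBcop : (Nat.card B).Coprime (Nat.card ↥(P ⊓ M)) := by
    obtain ⟨a, ha⟩ := IsPGroup.iff_card.mp (hP.to_le (inf_le_left : P ⊓ M ≤ P))
    obtain ⟨b, hb⟩ := exists_orderOf_eq_pow_of_mem_zpowers
      (pow_mem (pow_mem (mem_zpowers x) (2 ^ i)) 2) hk
    rw [hB, Nat.card_zpowers, ha, hb]
    exact (((Nat.coprime_primes Nat.prime_two Fact.out).mpr hp.symm).pow _ _)
  obtain ⟨c, hc, hcu⟩ := CfsgLib.Coprime.exists_fixed_mem_coset hBn hBcop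
    (Or.inl (Group.isSolvable_of_comm fun a b => mul_comm' a b)) hfix
  have hcP : c ∈ P := by
    have := mul_mem hu (mem_inf.mp hcu).1
    simpa using this
  have hcomm : z ^ 2 * c = c * z ^ 2 := mem_centralizer_iff.mp hc _ (mem_zpowers _)
  refine ⟨z, pow_mem (mem_zpowers x) _, c⁻¹ * z * c * z⁻¹, ?_, ?_, ?_⟩
  · have := mul_mem (inv_mem hcP) ((mem_normalizer_iff.mp hzP c).mp hcP)
    simpa [mul_assoc] using this
  · intro hmem
    refine hnu ?_
    have hm := (mem_inf.mp hcu).2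
    have h1 := (mem_normalizer_iff.mp hzM _).mp hm
    have := mul_mem (mul_mem hm hmem) (inv_mem h1)
    simpa [mul_assoc] using this
  · calc z * (c⁻¹ * z * c * z⁻¹) * z⁻¹ = z * c⁻¹ * z⁻¹ * (z ^ 2 * c) * (z ^ 2)⁻¹ := by group
      _ = (c⁻¹ * z * c * z⁻¹)⁻¹ := by rw [hcomm]; group

/-- An element of order `p` inverted by a `2`-element gives a dihedral section of order `2p`. -/
theorem involves_dihedral_of_inverted (hp : p ≠ 2) {z y : G} (hy : orderOf y = p)
    (hz2 : ∃ k, orderOf z = 2 ^ k) (hinv : z * y * z⁻¹ = y⁻¹) :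
    Cfsg.Involves (DihedralGroup p) G := by
  set K := closure ({z, y} : Set G) with hK
  have hzK : z ∈ K := subset_closure (Set.mem_insert _ _)
  have hyK : y ∈ K := subset_closure (Set.mem_insert_of_mem _ (Set.mem_singleton y))
  set R := zpowers (⟨z, hzK⟩ ^ 2 : ↥K) with hR
  have hcomm : (z ^ 2) * y = y * z ^ 2 := by
    have h1 : z ^ 2 * y * (z ^ 2)⁻¹ = y := by
      rw [show z ^ 2 * y * (z ^ 2)⁻¹ = z * (z * y * z⁻¹) * z⁻¹ by rw [sq]; group, hinv,
        show z * y⁻¹ * z⁻¹ = (z * y * z⁻¹)⁻¹ by group, hinv, inv_inv]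
    exact mul_inv_eq_iff_eq_mul.mp h1
  have hcen : (⟨z, hzK⟩ ^ 2 : ↥K) ∈ center ↥K := by
    rw [mem_center_iff]
    intro g
    apply Subtype.ext
    have hle : K ≤ centralizer ({z ^ 2} : Set G) := by
      rw [hK, closure_le]
      intro w hw
      simp only [Set.mem_insert_iff, Set.mem_singleton_iff] at hw
      rw [SetLike.mem_coe, mem_centralizer_singleton_iff]
      rcases hw with rfl | rfl
      · exact (Commute.self_pow w 2).eq
      · exact hcomm.symm
    simpa using mem_centralizer_singleton_iff.mp (hle g.2)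
  haveI hRn : R.Normal := ⟨fun n hn g => by
    rw [(mem_center_iff.mp (zpowers_le.mpr hcen hn) g), mul_inv_cancel_right]; exact hn⟩
  set q := QuotientGroup.mk' R with hq
  set X := q ⟨z, hzK⟩ with hX
  set Y := q ⟨y, hyK⟩ with hY
  have hX2 : X * X = 1 := by
    rw [hX, ← map_mul, ← sq]; exact (QuotientGroup.eq_one_iff _).mpr (mem_zpowers _)
  have hXY : X * Y * X⁻¹ = Y⁻¹ := by
    rw [hX, hY, ← map_inv, ← map_inv, ← map_mul, ← map_mul]
    exact congrArg q (Subtype.ext hinv)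
  have hYp : Y ^ p = 1 := by
    rw [hY, ← map_pow]
    have : (⟨y, hyK⟩ : ↥K) ^ p = 1 := Subtype.ext (by simp [← hy, pow_orderOf_eq_one])
    rw [this, map_one]
  obtain ⟨k, hk⟩ := hz2
  have hY1 : Y ≠ 1 := fun h => by
    have hmem : (⟨y, hyK⟩ : ↥K) ∈ R := (QuotientGroup.eq_one_iff _).mp h
    have hmem' : (⟨y, hyK⟩ : ↥K) ∈ zpowers (⟨z, hzK⟩ : ↥K) :=
      zpowers_le.mpr (pow_mem (mem_zpowers _) 2) hmem
    obtain ⟨i, hi⟩ := exists_orderOf_eq_pow_of_mem_zpowers hmem'
      (q := 2) (k := k) ((orderOf_mk z hzK).trans hk)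
    rw [orderOf_mk y hyK, hy] at hi
    exact hp ((Nat.prime_dvd_prime_iff_eq Fact.out Nat.prime_two).mp
      ((Fact.out : p.Prime).dvd_of_dvd_pow (dvd_of_eq hi)))
  let e : ZMod p →+ Additive (↥K ⧸ R) := ZMod.lift p
    ⟨zmultiplesHom _ (Additive.ofMul Y), by
      simp only [zmultiplesHom_apply, natCast_zsmul, ← ofMul_pow, hYp, ofMul_one]⟩
  let f : ZMod p → ↥K ⧸ R := fun i => (e i).toMul
  have fadd : ∀ i j, f (i + j) = f i * f j := fun i j => by simp [f, map_add, toMul_add]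
  have fnat : ∀ n : ℕ, f (n : ZMod p) = Y ^ n := fun n => by
    have : e ((n : ℤ) : ZMod p) = (n : ℤ) • Additive.ofMul Y := by
      rw [ZMod.lift_coe]; rfl
    simp only [Int.cast_natCast, natCast_zsmul] at this
    simp [f, this]
  have fsub : ∀ i j, f (i - j) = f i * (f j)⁻¹ := fun i j => by simp [f, map_sub, div_eq_mul_inv]
  have fX : ∀ i, X * f i * X⁻¹ = (f i)⁻¹ := fun i => by
    rw [← ZMod.natCast_zmod_val i, fnat, ← conj_pow, hXY, inv_pow]
  have hXinv : X⁻¹ = X := inv_eq_of_mul_eq_one_right hX2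
  let φ : DihedralGroup p → ↥K ⧸ R := fun d =>
    match d with
    | .r i => f i
    | .sr i => X * f i
  have fswap : ∀ i, f i * X = X * (f i)⁻¹ := fun i => by
    rw [← fX i, hXinv, ← mul_assoc, ← mul_assoc, hX2, one_mul]
  have hφ : ∀ a b, φ (a * b) = φ a * φ b := by
    rintro (i | i) (j | j) <;>
      simp only [φ, DihedralGroup.r_mul_r, DihedralGroup.r_mul_sr, DihedralGroup.sr_mul_r,
        DihedralGroup.sr_mul_sr]
    · exact fadd i j
    · rw [← mul_assoc, fswap, sub_eq_neg_add, fadd, ← zero_sub, fsub,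
        show f 0 = 1 by simp [f], one_mul, mul_assoc]
    · rw [mul_assoc, ← fadd]
    · rw [← mul_assoc, mul_assoc X (f i) X, fswap, ← mul_assoc, hX2, one_mul, sub_eq_neg_add, fadd,
        ← zero_sub, fsub, show f 0 = 1 by simp [f], one_mul]
  let Φ := MonoidHom.mk' φ hφ
  have hsurj : Function.Surjective Φ := by
    rw [← MonoidHom.range_eq_top, eq_top_iff]
    intro w _
    obtain ⟨w, rfl⟩ := QuotientGroup.mk'_surjective R w
    have hle : K ≤ ((Φ.range.comap q).map K.subtype) := by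
      conv_lhs => rw [hK]
      rw [closure_le]
      intro v hv
      simp only [Set.mem_insert_iff, Set.mem_singleton_iff] at hv
      rcases hv with rfl | rfl
      · exact ⟨⟨v, hzK⟩, ⟨DihedralGroup.sr 0, show X * f 0 = X by simp [f]⟩, rfl⟩
      · exact ⟨⟨v, hyK⟩, ⟨DihedralGroup.r ((1 : ℕ) : ZMod p), show f _ = Y by rw [fnat, pow_one]⟩, rfl⟩
    obtain ⟨w', hw', he⟩ := hle w.2
    rwa [Subtype.ext he] at hw'
  have hker : ∀ i : ZMod p, f i = 1 → i = 0 := by
    intro i hi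
    rw [← ZMod.natCast_zmod_val i, fnat, ← orderOf_dvd_iff_pow_eq_one, orderOf_eq_prime hYp hY1] at hi
    rw [← ZMod.natCast_zmod_val i, (ZMod.natCast_eq_zero_iff _ _).mpr hi]
  have hinj : Function.Injective Φ := by
    rw [injective_iff_map_eq_one]
    rintro (i | i) h
    · rw [hker i h]; rfl
    · exfalso
      have h2 : X = (f i)⁻¹ := eq_inv_of_mul_eq_one_left h
      have h3 : X * Y * X⁻¹ = Y := by
        rw [h2, ← ZMod.natCast_zmod_val i, fnat]; group
      rw [hXY] at h3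
      have h4 : Y ^ 2 = 1 := by rw [sq]; exact mul_eq_one_iff_eq_inv.mpr h3.symm
      have h5 := orderOf_dvd_of_pow_eq_one h4
      rw [orderOf_eq_prime hYp hY1] at h5
      exact hp ((Nat.prime_dvd_prime_iff_eq Fact.out Nat.prime_two).mp h5)
  let E := MulEquiv.ofBijective Φ ⟨hinj, hsurj⟩
  exact involves_of_surjective K (E.symm.toMonoidHom.comp q)
    (E.symm.surjective.comp (QuotientGroup.mk'_surjective R))

/-- Lifting a twisted pair `r`, `s` (with `r` of order `p`, `s² = 1`, `s r s⁻¹ = r⁻¹` and `⟨r⟩`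
normal) along a surjection: a `2`-element normalising a `p`-group and moving it modulo the kernel. -/
theorem exists_twisted_of_surjective (hp : p ≠ 2) {H : Type*} [Group H] {f : G →* H}
    (hf : Function.Surjective f) {r s : H} (hr : orderOf r = p) (hs : s * s = 1)
    (hsr : s * r * s⁻¹ = r⁻¹) (hn : ∀ h : H, h * r * h⁻¹ ∈ zpowers r) :
    ∃ (x : G) (P : Subgroup G), (∃ k, orderOf x = 2 ^ k) ∧ IsPGroup p ↥P ∧
      x ∈ Subgroup.normalizer (P : Set G) ∧ ∃ u ∈ P, f (u⁻¹ * x * u * x⁻¹) ≠ 1 := by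
  haveI : (zpowers r).Normal := by
    refine ⟨fun n hn' h => ?_⟩
    obtain ⟨i, rfl⟩ := mem_zpowers_iff.mp hn'
    rw [← conj_zpow]
    exact zpow_mem (hn h) i
  set L := (zpowers r).comap f with hL
  obtain ⟨y, hy⟩ := hf r
  set d := orderOf y with hd
  have hd0 : d ≠ 0 := (orderOf_pos y).ne'
  set m := d / p ^ d.factorization p with hm
  have hdm : p ^ d.factorization p * m = d := Nat.ordProj_mul_ordCompl_eq_self d p
  have hpm : ¬ p ∣ m := Nat.not_dvd_ordCompl Fact.out hd0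
  have hyp : (y ^ m) ^ p ^ d.factorization p = 1 := by
    rw [← pow_mul, mul_comm, hdm, hd, pow_orderOf_eq_one]
  have huL : y ^ m ∈ L := by
    rw [hL, mem_comap, map_pow, hy]; exact pow_mem (mem_zpowers r) m
  obtain ⟨j, -, hj⟩ := (Nat.dvd_prime_pow Fact.out).mp (orderOf_dvd_of_pow_eq_one hyp)
  obtain ⟨P, hP⟩ := ((IsPGroup.of_card (n := j) (by rw [Nat.card_zpowers, hj]) :
    IsPGroup p ↥(zpowers (y ^ m))).comap_subtype (K := L)).exists_le_sylow
  set P' := (P : Subgroup ↥L).map L.subtype with hP'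
  have huP : y ^ m ∈ P' := ⟨⟨y ^ m, huL⟩, hP (mem_zpowers (y ^ m)), rfl⟩
  have htop := Sylow.normalizer_sup_eq_top P
  rw [← hP'] at htop
  obtain ⟨t₀, ht₀⟩ := hf s
  obtain ⟨t, ht, htl⟩ : ∃ t ∈ Subgroup.normalizer (P' : Set G), t⁻¹ * t₀ ∈ L := by
    have hmem : t₀ ∈ Subgroup.normalizer (P' : Set G) ⊔ L := htop ▸ mem_top t₀
    rw [mem_sup_of_normal_right] at hmem
    obtain ⟨t, ht, l, hl, e⟩ := hmem
    exact ⟨t, ht, by rw [← e]; simpa using hl⟩
  have hfu : f (y ^ m) = r ^ m := by rw [map_pow, hy]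
  have htr : f t * r * (f t)⁻¹ = r⁻¹ := by
    rw [hL, mem_comap, map_mul, map_inv, ht₀] at htl
    obtain ⟨i, hi⟩ := mem_zpowers_iff.mp htl
    have hft : f t = s * (r ^ i)⁻¹ := by rw [hi]; group
    rw [hft, show s * (r ^ i)⁻¹ * r * (s * (r ^ i)⁻¹)⁻¹ = s * r * s⁻¹ by group, hsr]
  set e := orderOf t with he
  have he0 : e ≠ 0 := (orderOf_pos t).ne'
  set m' := e / 2 ^ e.factorization 2 with hm'
  have hem : 2 ^ e.factorization 2 * m' = e := Nat.ordProj_mul_ordCompl_eq_self e 2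
  have hm'odd : Odd m' := by
    rw [← Nat.not_even_iff_odd, even_iff_two_dvd]
    exact Nat.not_dvd_ordCompl Nat.prime_two he0
  have hx2 : (t ^ m') ^ 2 ^ e.factorization 2 = 1 := by
    rw [← pow_mul, mul_comm, hem, he, pow_orderOf_eq_one]
  obtain ⟨k, -, hk⟩ := (Nat.dvd_prime_pow Nat.prime_two).mp (orderOf_dvd_of_pow_eq_one hx2)
  have key : ∀ n : ℕ, (f t) ^ n * r * ((f t) ^ n)⁻¹ = r ^ ((-1 : ℤ) ^ n) := by
    intro n
    induction n with
    | zero => simp
    | succ n ih =>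
      rw [pow_succ', show f t * (f t) ^ n * r * (f t * (f t) ^ n)⁻¹ =
        f t * ((f t) ^ n * r * ((f t) ^ n)⁻¹) * (f t)⁻¹ by group, ih, ← conj_zpow, htr, inv_zpow,
        ← zpow_neg, pow_succ, mul_neg_one]
  refine ⟨t ^ m', P', ⟨k, hk⟩, P.isPGroup'.map _, pow_mem ht _, y ^ m, huP, ?_⟩
  rw [map_mul, map_mul, map_mul, map_inv, map_inv, map_pow f t, hfu]
  intro h0
  have h1 : (f t) ^ m' * r ^ m * ((f t) ^ m')⁻¹ = r ^ m := by
    rwa [mul_assoc, mul_assoc, inv_mul_eq_one, ← mul_assoc, eq_comm] at h0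
  rw [← conj_pow, key, hm'odd.neg_one_pow, zpow_neg_one, inv_pow, inv_eq_iff_mul_eq_one,
    ← pow_add, ← orderOf_dvd_iff_pow_eq_one, hr] at h1
  rw [← two_mul] at h1
  rcases (Fact.out : p.Prime).dvd_mul.mp h1 with h2 | h2
  · exact hp ((Nat.prime_dvd_prime_iff_eq Fact.out Nat.prime_two).mp h2)
  · exact hpm h2

end CfsgLib.LocalEven
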