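import Cfsg.Prelude.Def_LocalEven
import Cfsg.Agent.PLocal.Cores
import Cfsg.Agent.Linear.SylowChar
import Mathlib.Tactic

/-!
# The group `Qd(F) = F² ⋊ SL₂(F)` as affine matrices

`mem_qdOver`, the constructor `mk` with `mk_mul`, the block homomorphism `block` onto `SL₂(F)`, the
translations `transl = ker block`, the complement `lin`, and `pCore_eq_transl`.
-/

set_option autoImplicit false

namespace CfsgLib.LocalEven.QdOver

open Matrix

variable {F : Type*} [Field F]

/-- The affine subgroup of `SL₃(F)`. -/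
def affine (F : Type*) [Field F] : Subgroup (SpecialLinearGroup (Fin 3) F) where
  carrier := {M | (M : Matrix (Fin 3) (Fin 3) F) 2 0 = 0 ∧
    (M : Matrix (Fin 3) (Fin 3) F) 2 1 = 0 ∧ (M : Matrix (Fin 3) (Fin 3) F) 2 2 = 1}
  one_mem' := by simp
  mul_mem' := by
    rintro a b ⟨a0, a1, a2⟩ ⟨b0, b1, b2⟩
    simp [Matrix.mul_apply, Fin.sum_univ_three, a0, a1, a2, b0, b1, b2]
  inv_mem' := by
    rintro a ⟨a0, a1, a2⟩
    have h : ((a⁻¹ : SpecialLinearGroup (Fin 3) F) : Matrix (Fin 3) (Fin 3) F) =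
        adjugate (a : Matrix (Fin 3) (Fin 3) F) := rfl
    have hd : (a : Matrix (Fin 3) (Fin 3) F).det = 1 := a.2
    rw [det_fin_three, a0, a1, a2] at hd
    simp [h, adjugate_fin_three, a0, a1]
    linear_combination hd

theorem qdOver_eq : Cfsg.qdOver F = affine F := Subgroup.closure_eq (affine F)

theorem qd_eq_qdOver (p : ℕ) [Fact p.Prime] : Cfsg.qd p = Cfsg.qdOver (ZMod p) := rfl

theorem lastRow (M : ↥(Cfsg.qdOver F)) : M.1.1 2 0 = 0 ∧ M.1.1 2 1 = 0 ∧ M.1.1 2 2 = 1 := by
  have h : M.1 ∈ affine F := qdOver_eq (F := F) ▸ M.2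
  exact h

/-- The element with block `!![a, b; c, d]` and translation part `(x, y)`. -/
def mk (a b c d x y : F) (h : a * d - b * c = 1) : ↥(Cfsg.qdOver F) :=
  ⟨⟨!![a, b, x; c, d, y; 0, 0, 1], by simp [Matrix.det_fin_three, h]⟩,
    Subgroup.subset_closure
      (show (!![a, b, x; c, d, y; 0, 0, 1] : Matrix (Fin 3) (Fin 3) F) 2 0 = 0 ∧
        (!![a, b, x; c, d, y; 0, 0, 1] : Matrix (Fin 3) (Fin 3) F) 2 1 = 0 ∧
        (!![a, b, x; c, d, y; 0, 0, 1] : Matrix (Fin 3) (Fin 3) F) 2 2 = 1 by simp)⟩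

theorem val_mk (a b c d x y : F) (h : a * d - b * c = 1) :
    (mk a b c d x y h).1.1 = !![a, b, x; c, d, y; 0, 0, 1] := rfl

theorem mk_congr {a b c d x y a' b' c' d' x' y' : F} {h : a * d - b * c = 1}
    {h' : a' * d' - b' * c' = 1} (ea : a = a') (eb : b = b') (ec : c = c') (ed : d = d')
    (ex : x = x') (ey : y = y') : mk a b c d x y h = mk a' b' c' d' x' y' h' := by
  subst ea eb ec ed ex ey; rfl

theorem exists_eq_mk (M : ↥(Cfsg.qdOver F)) :
    ∃ (a b c d x y : F) (h : a * d - b * c = 1), M = mk a b c d x y h := by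
  obtain ⟨m0, m1, m2⟩ := lastRow M
  have hd : M.1.1.det = 1 := M.1.2
  rw [det_fin_three, m0, m1, m2] at hd
  refine ⟨M.1.1 0 0, M.1.1 0 1, M.1.1 1 0, M.1.1 1 1, M.1.1 0 2, M.1.1 1 2,
    by linear_combination hd, ?_⟩
  apply Subtype.ext
  apply Subtype.ext
  rw [val_mk]
  ext i j
  fin_cases i <;> fin_cases j <;> simp [m0, m1, m2]

theorem mk_mul (a b c d x y : F) (h : a * d - b * c = 1)
    (a' b' c' d' x' y' : F) (h' : a' * d' - b' * c' = 1) :
    mk a b c d x y h * mk a' b' c' d' x' y' h' =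
      mk (a * a' + b * c') (a * b' + b * d') (c * a' + d * c') (c * b' + d * d')
        (a * x' + b * y' + x) (c * x' + d * y' + y)
        (by linear_combination (a' * d' - b' * c') * h + h') := by
  apply Subtype.ext
  apply Subtype.ext
  show (mk a b c d x y h).1.1 * (mk a' b' c' d' x' y' h').1.1 = _
  rw [val_mk, val_mk, val_mk]
  ext i j
  fin_cases i <;> fin_cases j <;> simp [Matrix.mul_apply, Fin.sum_univ_three]

theorem mk_one : mk (1 : F) 0 0 1 0 0 (by ring) = 1 := by
  apply Subtype.ext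
  apply Subtype.ext
  rw [val_mk]
  ext i j
  fin_cases i <;> fin_cases j <;> simp

theorem mk_inj {a b c d x y a' b' c' d' x' y' : F} {h : a * d - b * c = 1}
    {h' : a' * d' - b' * c' = 1} (e : mk a b c d x y h = mk a' b' c' d' x' y' h') :
    a = a' ∧ b = b' ∧ c = c' ∧ d = d' ∧ x = x' ∧ y = y' := by
  have := congrArg (fun M : ↥(Cfsg.qdOver F) => M.1.1) e
  simp only [val_mk] at this
  exact ⟨by simpa using congrFun (congrFun this 0) 0, by simpa using congrFun (congrFun this 0) 1,
    by simpa using congrFun (congrFun this 1) 0, by simpa using congrFun (congrFun this 1) 1,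
    by simpa using congrFun (congrFun this 0) 2, by simpa using congrFun (congrFun this 1) 2⟩

/-- An element of `SL₂(F)` from its entries. -/
def sl2 (a b c d : F) (h : a * d - b * c = 1) : SpecialLinearGroup (Fin 2) F :=
  ⟨!![a, b; c, d], by simpa [Matrix.det_fin_two] using h⟩

theorem sl2_val (a b c d : F) (h : a * d - b * c = 1) : (sl2 a b c d h).1 = !![a, b; c, d] := rfl

theorem sl2_eta (g : SpecialLinearGroup (Fin 2) F) :
    g.1 0 0 * g.1 1 1 - g.1 0 1 * g.1 1 0 = 1 := by
  rw [← Matrix.det_fin_two]; exact g.2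

/-- The upper left block. -/
def block : ↥(Cfsg.qdOver F) →* SpecialLinearGroup (Fin 2) F where
  toFun M := sl2 (M.1.1 0 0) (M.1.1 0 1) (M.1.1 1 0) (M.1.1 1 1) (by
    obtain ⟨m0, m1, m2⟩ := lastRow M
    have hd : M.1.1.det = 1 := M.1.2
    rw [det_fin_three, m0, m1, m2] at hd
    linear_combination hd)
  map_one' := by
    apply Subtype.ext; rw [sl2_val]
    ext i j; fin_cases i <;> fin_cases j <;> simp
  map_mul' M N := by
    obtain ⟨n0, n1, -⟩ := lastRow N
    apply Subtype.ext
    show _ = (sl2 _ _ _ _ _).1 * (sl2 _ _ _ _ _).1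
    have e : (M * N).1.1 = M.1.1 * N.1.1 := rfl
    rw [sl2_val, sl2_val, sl2_val, e]
    ext i j
    fin_cases i <;> fin_cases j <;>
      simp [Matrix.mul_apply, Fin.sum_univ_three, Fin.sum_univ_two, n0, n1]

theorem block_val (M : ↥(Cfsg.qdOver F)) :
    (block M).1 = !![M.1.1 0 0, M.1.1 0 1; M.1.1 1 0, M.1.1 1 1] := rfl

theorem block_mk (a b c d x y : F) (h : a * d - b * c = 1) :
    block (mk a b c d x y h) = sl2 a b c d h := by
  apply Subtype.ext
  rw [block_val, sl2_val, val_mk]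
  simp

/-- The translation subgroup. -/
def transl (F : Type*) [Field F] : Subgroup ↥(Cfsg.qdOver F) := (block (F := F)).ker

instance transl_normal (F : Type*) [Field F] : (transl F).Normal :=
  inferInstanceAs (block (F := F)).ker.Normal

/-- The translation by `(x, y)`. -/
def tr (x y : F) : ↥(Cfsg.qdOver F) := mk 1 0 0 1 x y (by ring)

theorem tr_mem (x y : F) : tr x y ∈ transl F := by
  rw [transl, MonoidHom.mem_ker, tr, block_mk]
  apply Subtype.ext
  rw [sl2_val]
  exact Matrix.one_fin_two.symm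

theorem exists_eq_tr {M : ↥(Cfsg.qdOver F)} (hM : M ∈ transl F) : ∃ x y, M = tr x y := by
  obtain ⟨a, b, c, d, x, y, h, rfl⟩ := exists_eq_mk M
  rw [transl, MonoidHom.mem_ker, block_mk] at hM
  have := congrArg (fun g : SpecialLinearGroup (Fin 2) F => g.1) hM
  simp only [sl2_val] at this
  exact ⟨x, y, mk_congr (by simpa using congrFun (congrFun this 0) 0)
    (by simpa using congrFun (congrFun this 0) 1) (by simpa using congrFun (congrFun this 1) 0)
    (by simpa using congrFun (congrFun this 1) 1) rfl rfl⟩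

theorem mem_transl_iff (M : ↥(Cfsg.qdOver F)) : M ∈ transl F ↔
    M.1.1 0 0 = 1 ∧ M.1.1 0 1 = 0 ∧ M.1.1 1 0 = 0 ∧ M.1.1 1 1 = 1 := by
  constructor
  · intro h
    obtain ⟨x, y, rfl⟩ := exists_eq_tr h
    simp [tr, val_mk]
  · rintro ⟨h1, h2, h3, h4⟩
    rw [transl, MonoidHom.mem_ker]
    apply Subtype.ext
    rw [block_val, h1, h2, h3, h4]
    exact Matrix.one_fin_two.symm

theorem tr_mul (x y x' y' : F) : tr x y * tr x' y' = tr (x + x') (y + y') := by
  rw [tr, tr, mk_mul]
  exact mk_congr (by ring) (by ring) (by ring) (by ring) (by ring) (by ring)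

theorem tr_zero : tr (0 : F) 0 = 1 := mk_one

theorem tr_pow (x y : F) (n : ℕ) : tr x y ^ n = tr ((n : F) * x) ((n : F) * y) := by
  induction n with
  | zero => simp [tr_zero]
  | succ n ih => rw [pow_succ, ih, tr_mul]; congr 1 <;> push_cast <;> ring

/-- The block diagonal embedding of `SL₂(F)`. -/
def emb : SpecialLinearGroup (Fin 2) F →* ↥(Cfsg.qdOver F) where
  toFun g := mk (g.1 0 0) (g.1 0 1) (g.1 1 0) (g.1 1 1) 0 0 (sl2_eta g)
  map_one' := by
    rw [← mk_one]
    exact mk_congr (by simp) (by simp) (by simp) (by simp) rfl rfl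
  map_mul' g k := by
    rw [mk_mul]
    exact mk_congr (by simp [Matrix.mul_apply, Fin.sum_univ_two])
      (by simp [Matrix.mul_apply, Fin.sum_univ_two]) (by simp [Matrix.mul_apply, Fin.sum_univ_two])
      (by simp [Matrix.mul_apply, Fin.sum_univ_two]) (by simp) (by simp)

theorem block_emb (g : SpecialLinearGroup (Fin 2) F) : block (emb g) = g := by
  apply Subtype.ext
  simp only [emb, MonoidHom.coe_mk, OneHom.coe_mk, block_mk, sl2_val]
  exact (Matrix.eta_fin_two g.1).symm

theorem block_surjective : Function.Surjective (block (F := F)) := fun g => ⟨emb g, block_emb g⟩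

theorem mk_conj_tr (g : SpecialLinearGroup (Fin 2) F) (x y : F) :
    emb g * tr x y * (emb g)⁻¹ = tr (g.1 0 0 * x + g.1 0 1 * y) (g.1 1 0 * x + g.1 1 1 * y) := by
  rw [mul_inv_eq_iff_eq_mul]
  simp only [emb, MonoidHom.coe_mk, OneHom.coe_mk, tr, mk_mul]
  exact mk_congr (by ring) (by ring) (by ring) (by ring) (by ring) (by ring)

variable [Fintype F] {p : ℕ} [Fact p.Prime] [CharP F p]

/-- `SL₂(F)` has no nontrivial normal `p`-subgroup in characteristic `p`. -/
theorem sl2_normal_pGroup_eq_bot (N : Subgroup (SpecialLinearGroup (Fin 2) F)) [N.Normal]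
    (hN : IsPGroup p N) : N = ⊥ := by
  letI : MulAction ↥N (Fin 2 → F) :=
    { smul := fun g v => g.1.1 *ᵥ v
      one_smul := fun v => Matrix.one_mulVec v
      mul_smul := fun g k v => by
        show (g * k : ↥N).1.1 *ᵥ v = g.1.1 *ᵥ (k.1.1 *ᵥ v)
        rw [Matrix.mulVec_mulVec]; rfl }
  have hp : p ∣ Nat.card (Fin 2 → F) := by
    obtain ⟨n, hn⟩ := FiniteField.card F p
    rw [Nat.card_fun, Nat.card_eq_fintype_card, hn.2, Nat.card_fin, ← pow_mul]
    exact dvd_pow_self p (by positivity)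
  obtain ⟨v, hv, hv0⟩ := hN.exists_fixed_point_of_prime_dvd_card_of_fixed_point (Fin 2 → F) hp
    (a := 0) (fun g => Matrix.mulVec_zero _)
  rw [eq_bot_iff]
  intro n hn
  have hfix : ∀ (g : SpecialLinearGroup (Fin 2) F), n.1 *ᵥ (g.1 *ᵥ v) = g.1 *ᵥ v := by
    intro g
    have h1 : (g⁻¹ * n * g).1 *ᵥ v = v :=
      hv ⟨_, by simpa using (inferInstance : N.Normal).conj_mem n hn g⁻¹⟩
    calc n.1 *ᵥ (g.1 *ᵥ v) = (n * g).1 *ᵥ v := Matrix.mulVec_mulVec v n.1 g.1
      _ = (g * (g⁻¹ * n * g)).1 *ᵥ v := by rw [show g * (g⁻¹ * n * g) = n * g by group]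
      _ = g.1 *ᵥ ((g⁻¹ * n * g).1 *ᵥ v) := (Matrix.mulVec_mulVec v g.1 _).symm
      _ = g.1 *ᵥ v := by rw [h1]
  have h1 := hfix 1
  have hu := hfix (CfsgLib.Linear.upperUni 1)
  have hl := hfix (CfsgLib.Linear.lowerUni 1)
  rw [CfsgLib.Linear.upperUni_val] at hu
  rw [CfsgLib.Linear.lowerUni_val] at hl
  rw [show (1 : SpecialLinearGroup (Fin 2) F).1 = (1 : Matrix (Fin 2) (Fin 2) F) from rfl,
    Matrix.one_mulVec] at h1
  rw [Subgroup.mem_bot]
  have a0 := congrFun h1 0; have a1 := congrFun h1 1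
  have b0 := congrFun hu 0; have b1 := congrFun hu 1
  have c0 := congrFun hl 0; have c1 := congrFun hl 1
  simp [Matrix.mulVec, dotProduct, Fin.sum_univ_two] at a0 a1 b0 b1 c0 c1
  have hd := sl2_eta n
  by_cases hv1 : v 1 = 0
  · have hv00 : v 0 ≠ 0 := fun h => hv0 (funext fun i => by fin_cases i <;> simp [h, hv1])
    have e01 : n.1 0 1 = 0 := by
      have : n.1 0 1 * v 0 = 0 := by linear_combination c0 - a0
      simpa [hv00] using this
    have e11 : n.1 1 1 = 1 := by
      have : (n.1 1 1 - 1) * v 0 = 0 := by linear_combination c1 - a1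
      simpa [hv00, sub_eq_zero] using this
    have e00 : n.1 0 0 = 1 := by rw [e01, e11] at hd; linear_combination hd
    have e10 : n.1 1 0 = 0 := by
      rw [hv1] at a1
      have : n.1 1 0 * v 0 = 0 := by linear_combination a1
      simpa [hv00] using this
    apply Subtype.ext; ext i j; fin_cases i <;> fin_cases j <;> simp [e00, e01, e10, e11]
  · have e00 : n.1 0 0 = 1 := by
      have : (n.1 0 0 - 1) * v 1 = 0 := by linear_combination b0 - a0
      simpa [hv1, sub_eq_zero] using this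
    have e10 : n.1 1 0 = 0 := by
      have : n.1 1 0 * v 1 = 0 := by linear_combination b1 - a1
      simpa [hv1] using this
    have e11 : n.1 1 1 = 1 := by rw [e00, e10] at hd; linear_combination hd
    have e01 : n.1 0 1 = 0 := by
      rw [e00] at a0
      have : n.1 0 1 * v 1 = 0 := by linear_combination a0
      simpa [hv1] using this
    apply Subtype.ext; ext i j; fin_cases i <;> fin_cases j <;> simp [e00, e01, e10, e11]

theorem isPGroup_transl : IsPGroup p (transl F) := by
  rintro ⟨M, hM⟩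
  obtain ⟨x, y, rfl⟩ := exists_eq_tr hM
  refine ⟨1, Subtype.ext ?_⟩
  rw [pow_one, SubmonoidClass.coe_pow, tr_pow]
  simp [tr_zero]

/-- `O_p(Qd(F))` is the translation group. -/
theorem pCore_eq_transl : Cfsg.pCore p ↥(Cfsg.qdOver F) = transl F := by
  refine le_antisymm ?_ (CfsgLib.PLocal.le_pCore isPGroup_transl)
  have : ((Cfsg.pCore p ↥(Cfsg.qdOver F)).map block).Normal :=
    Subgroup.Normal.map inferInstance _ block_surjective
  have h := sl2_normal_pGroup_eq_bot _
    ((CfsgLib.PLocal.isPGroup_pCore p ↥(Cfsg.qdOver F)).map block)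
  exact (Subgroup.map_eq_bot_iff _).mp h

end CfsgLib.LocalEven.QdOver
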