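import Cfsg.Agent.LocalEven.QdSection
import Cfsg.Agent.LocalEven.QdOver
import Cfsg.Agent.LocalEven.Involves
import Cfsg.Agent.FusionPStable.ZJControl
import Cfsg.Agent.PLocal.ZJTheorem

/-!
# `N(Z(J(S)))` controls fusion when the local subgroups over `Z(S)` involve no `SL(2, p)`

Joint downward induction on orders: fusion between subgroups of `S`, and fusion inside `N(V)` on
`N_S(V)` for `V` whose normalizer involves no `SL(2, p)`. Extremal conjugates reduce both to
control of strong fusion by `Z(J(-))` in `p`-stable groups.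
-/

set_option autoImplicit false

universe u

namespace CfsgLib.LocalEven.LocallyFree

open Cfsg Subgroup CfsgLib.ConjFunctor
open scoped MatrixGroups

variable {G : Type u} [Group G] {p : ℕ}

/-- No subgroup of `N(X)` maps onto `SL(2, p)`. -/
def Free (p : ℕ) (X : Subgroup G) : Prop :=
  ∀ H : Subgroup G, H ≤ normalizer (X : Set G) →
    ∀ f : ↥H →* SL(2, ZMod p), ¬ Function.Surjective f

theorem free_of_sections {X : Subgroup G}
    (h : ¬ ∃ (H K : Subgroup G) (_ : (K.subgroupOf H).Normal), H ≤ normalizer (X : Set G) ∧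
      Nonempty ((H ⧸ K.subgroupOf H) ≃* SL(2, ZMod p))) : Free p X := by
  intro H hH f hf
  have e : (f.ker.map H.subtype).subgroupOf H = f.ker :=
    comap_map_eq_self_of_injective H.subtype_injective _
  have hN : ((f.ker.map H.subtype).subgroupOf H).Normal := e.symm ▸ f.normal_ker
  exact h ⟨H, f.ker.map H.subtype, hN, hH, ⟨(QuotientGroup.quotientMulEquivOfEq e).trans
    (QuotientGroup.quotientKerEquivOfSurjective f hf)⟩⟩

theorem Free.cj {X : Subgroup G} (h : Free p X) (a : G) : Free p (a *• X) := by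
  intro H hH f hf
  have hH' : a⁻¹ *• H ≤ normalizer (X : Set G) := by
    have := cj_mono a⁻¹ hH
    rwa [normalizer_cj, cj_inv_cj] at this
  let e := H.equivMapOfInjective (MulAut.conj a⁻¹).toMonoidHom (MulAut.conj a⁻¹).injective
  exact h _ hH' (f.comp e.symm.toMonoidHom) (hf.comp e.symm.surjective)

theorem Free.qdFree [Fact p.Prime] {X : Subgroup G} (h : Free p X) :
    ¬ Cfsg.Involves ↥(Cfsg.qd p) ↥(normalizer (X : Set G)) := by
  intro hI
  obtain ⟨K, f, hf⟩ := CfsgLib.LocalEven.exists_surjective_of_involves' hI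
  let e := K.equivMapOfInjective (normalizer (X : Set G)).subtype
    (normalizer (X : Set G)).subtype_injective
  let b : ↥(Cfsg.qd p) →* SL(2, ZMod p) := QdOver.block (F := ZMod p)
  exact h (K.map (normalizer (X : Set G)).subtype) (map_subtype_le _)
    ((b.comp f).comp e.symm.toMonoidHom)
    (((QdOver.block_surjective (F := ZMod p)).comp hf).comp e.symm.surjective)

theorem inf_centralizer_le_centerThompsonAOf [Finite G] (P : Subgroup G) :
    P ⊓ centralizer (P : Set G) ≤ centerThompsonAOf P := by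
  rw [CfsgLib.PLocal.centerThompsonAOf_eq_sInf]
  refine le_sInf fun A hA => ?_
  have hC : IsMulCommutative ↥(P ⊓ centralizer (P : Set G)) :=
    le_centralizer_iff_isMulCommutative.mp (inf_le_right.trans (centralizer_le
      (SetLike.coe_subset_coe.mpr inf_le_left)))
  have hAC : A ≤ centralizer ((P ⊓ centralizer (P : Set G) : Subgroup G) : Set G) :=
    hA.1.trans (le_centralizer_iff.mp inf_le_right)
  have := eq_of_le_of_card_ge (le_sup_left : A ≤ A ⊔ (P ⊓ centralizer (P : Set G)))
    (hA.2.2 _ (sup_le hA.1 inf_le_left)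
      (CfsgLib.PLocal.isMulCommutative_sup hA.2.1 hC hAC))
  exact this ▸ le_sup_right

/-- Some element of `M` induces the same map as `g` on `A`. -/
def Good (M A : Subgroup G) (g : G) : Prop :=
  ∃ n ∈ M, ∀ a ∈ A, n * a * n⁻¹ = g * a * g⁻¹

section Good

variable {M A B : Subgroup G} {g h : G}

theorem good_of_mem (hg : g ∈ M) : Good M A g := ⟨g, hg, fun _ _ => rfl⟩

theorem Good.mono (hh : Good M A g) (hBA : B ≤ A) : Good M B g := by
  obtain ⟨n, hn, hnA⟩ := hh
  exact ⟨n, hn, fun a ha => hnA a (hBA ha)⟩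

theorem Good.mul (h1 : Good M A g) (h2 : Good M (g *• A) h) : Good M A (h * g) := by
  obtain ⟨n, hn, hnA⟩ := h1
  obtain ⟨m, hm, hmA⟩ := h2
  refine ⟨m * n, mul_mem hm hn, fun a ha => ?_⟩
  rw [show (m * n) * a * (m * n)⁻¹ = m * (n * a * n⁻¹) * m⁻¹ by group, hnA a ha,
    hmA _ (conj_mem_cj g ha)]
  group

theorem Good.inv (h1 : Good M A g) : Good M (g *• A) g⁻¹ := by
  obtain ⟨n, hn, hnA⟩ := h1
  refine ⟨n⁻¹, inv_mem hn, ?_⟩
  rintro _ ⟨a, ha, rfl⟩
  show n⁻¹ * (g * a * g⁻¹) * n⁻¹⁻¹ = g⁻¹ * (g * a * g⁻¹) * g⁻¹⁻¹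
  calc n⁻¹ * (g * a * g⁻¹) * n⁻¹⁻¹ = a := by rw [← hnA a ha]; group
    _ = _ := by group

end Good

variable [Finite G] [Fact p.Prime]

/-- The subgroup that is to control fusion. -/
def zjNorm (S : Sylow p G) : Subgroup G :=
  normalizer (centerThompsonAOf (S : Subgroup G) : Set G)

theorem stepP {S : Sylow p G}
    (hfree : ∀ P : Subgroup G, (S : Subgroup G) ⊓ centralizer ((S : Subgroup G) : Set G) ≤ P →
      P ≤ (S : Subgroup G) → Free p P)
    {R : Subgroup G} {g : G} (hR : R ≤ S) (hgR : g *• R ≤ S)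
    (hP : ∀ (R' : Subgroup G) (g' : G), R' ≤ S → g' *• R' ≤ S →
      Nat.card R < Nat.card R' → Good (zjNorm S) R' g')
    (hL : ∀ (V A : Subgroup G) (m : G), V ≤ S → Free p V → m ∈ normalizer (V : Set G) →
      A ≤ (S : Subgroup G) ⊓ normalizer (V : Set G) →
      m *• A ≤ (S : Subgroup G) ⊓ normalizer (V : Set G) →
      Nat.card R < Nat.card ↥((S : Subgroup G) ⊓ normalizer (V : Set G)) →
      Good (zjNorm S) A m) :
    Good (zjNorm S) R g := by
  classical
  set N := zjNorm S with hN
  rcases eq_or_lt_of_le hR with hRS | hRlt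
  · subst hRS
    exact good_of_mem (CfsgLib.PLocal.normalizer_le_normalizer_centerThompsonAOf _
      (mem_normalizer_of_cj_le hgR))
  have hcard : Nat.card R < Nat.card (S : Subgroup G) := by
    by_contra hc
    exact hRlt.ne (eq_of_le_of_card_ge hR (not_lt.mp hc))
  have hlt : ∀ X : Subgroup G, X ≤ S → Nat.card X = Nat.card R →
      Nat.card R < Nat.card ↥((S : Subgroup G) ⊓ normalizer (X : Set G)) := by
    intro X hX hXc
    have hXlt : X < (S : Subgroup G) := lt_of_le_of_ne hX (by rintro rfl; omega)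
    have hh := lt_inf_normalizer S.2 hXlt
    rw [← hXc]
    by_contra hc
    exact hh.ne (eq_of_le_of_card_ge hh.le (not_lt.mp hc))
  obtain ⟨a, haR, haU, haN⟩ := exists_extremal_conj (isSylowIn_top S) hR
  have hga : Good N R a :=
    (hP _ a inf_le_left haN (hlt R hR rfl)).mono (le_inf hR le_normalizer)
  obtain ⟨b, hbU, hbN⟩ := exists_conj_to_extremal S.2 haU (T := g *• R)
    ⟨a * g⁻¹, by rw [← cj_cj, cj_inv_cj]⟩
  have hgb : Good N (g *• R) b :=
    (hP _ b inf_le_left (hbN.trans inf_le_left) (hlt _ hgR (card_cj g R))).mono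
      (le_inf hgR le_normalizer)
  set U := a *• R with hU
  set m := b * g * a⁻¹ with hm
  have hmU : m ∈ normalizer (U : Set G) := by
    refine mem_normalizer_iff_cj.mpr ?_
    rw [hm, hU, ← cj_cj, cj_inv_cj, ← cj_cj, hbU]
  have hUc : Nat.card U = Nat.card R := card_cj a R
  -- it suffices to treat the element `m` of `N(U)`
  suffices hgm : Good N U m by
    have h1 : Good N R (m * a) := hga.mul hgm
    have h2 : Good N (b *• (g *• R)) b⁻¹ := hgb.inv
    have h3 : (m * a) *• R = b *• (g *• R) := by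
      rw [cj_cj, hm]; congr 2; group
    have h4 := h1.mul (h3 ▸ h2)
    rwa [show b⁻¹ * (m * a) = g by rw [hm]; group] at h4
  set C := (S : Subgroup G) ⊓ centralizer (U : Set G) with hC
  by_cases hCU : C ≤ U
  · have hZ : (S : Subgroup G) ⊓ centralizer ((S : Subgroup G) : Set G) ≤ U :=
      le_trans (inf_le_inf_left _ (centralizer_le (SetLike.coe_subset_coe.mpr haR))) hCU
    refine hL U U m haR (hfree U hZ haR) hmU (le_inf haR le_normalizer) ?_ (hlt U haR hUc)
    rw [cj_eq_of_mem_normalizer hmU]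
    exact le_inf haR le_normalizer
  · -- Frattini argument with a Sylow subgroup of `C(U)`
    have hcn : normalizer (U : Set G) ≤ normalizer ((centralizer (U : Set G) : Subgroup G) : Set G) := by
      intro x hx
      refine mem_normalizer_of_forall_conj_mem fun c hc => mem_centralizer_iff.mpr fun u hu => ?_
      have hu' : x⁻¹ * u * x ∈ U := by
        simpa using (mem_normalizer_iff.mp (inv_mem hx) u).mp hu
      have he := mem_centralizer_iff.mp hc _ hu'
      calc u * (x * c * x⁻¹) = x * ((x⁻¹ * u * x) * c) * x⁻¹ := by group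
        _ = x * (c * (x⁻¹ * u * x)) * x⁻¹ := by rw [he]
        _ = x * c * x⁻¹ * u := by group
    have hCS : IsSylowIn p C (centralizer (U : Set G)) := by
      have h0 := ((extremal_iff S.2).mp haU).inf_of_normal (centralizer_le_normalizer' U) hcn
      rwa [inf_assoc, inf_eq_right.mpr (centralizer_le_normalizer' U)] at h0
    have hmC : IsSylowIn p (m *• C) (centralizer (U : Set G)) := by
      have h0 := hCS.cj m
      rwa [cj_eq_of_mem_normalizer (hcn hmU)] at h0
    obtain ⟨c, hc, hcm⟩ := hCS.exists_cj_eq hmC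
    have hcU : c ∈ normalizer (U : Set G) := centralizer_le_normalizer' U hc
    set U' := U ⊔ C with hU'
    have hU'S : U' ≤ S := sup_le haR inf_le_left
    have hfix : (c * m) *• U' = U' := by
      rw [hU', Subgroup.map_sup, ← cj_cj, cj_eq_of_mem_normalizer hmU, cj_eq_of_mem_normalizer hcU,
        ← cj_cj, hcm]
    have hlt' : Nat.card R < Nat.card U' := by
      rw [← hUc]
      by_contra hh
      exact hCU (le_sup_right.trans (eq_of_le_of_card_ge le_sup_left (not_lt.mp hh)).ge)
    obtain ⟨n, hn, hnA⟩ := hP U' (c * m) hU'S (hfix.le.trans hU'S) hlt'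
    refine ⟨n, hn, fun u hu => ?_⟩
    rw [hnA u ((le_sup_left : U ≤ U') hu)]
    have hu' : m * u * m⁻¹ ∈ U := (mem_normalizer_iff.mp hmU u).mp hu
    calc (c * m) * u * (c * m)⁻¹ = c * (m * u * m⁻¹) * c⁻¹ := by group
      _ = m * u * m⁻¹ := by rw [← mem_centralizer_iff.mp hc _ hu']; group

theorem stepL_extremal (hp : p ≠ 2) {S : Sylow p G}
    (hfree : ∀ P : Subgroup G, (S : Subgroup G) ⊓ centralizer ((S : Subgroup G) : Set G) ≤ P →
      P ≤ (S : Subgroup G) → Free p P)
    {V A : Subgroup G} {h : G} (hV : V ≤ S) (hVfree : Free p V) (hext : Extremal p (S : Subgroup G) V)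
    (hh : h ∈ normalizer (V : Set G)) (hA : A ≤ (S : Subgroup G) ⊓ normalizer (V : Set G))
    (hhA : h *• A ≤ (S : Subgroup G) ⊓ normalizer (V : Set G))
    (hL : ∀ (V' A' : Subgroup G) (m : G), V' ≤ S → Free p V' → m ∈ normalizer (V' : Set G) →
      A' ≤ (S : Subgroup G) ⊓ normalizer (V' : Set G) →
      m *• A' ≤ (S : Subgroup G) ⊓ normalizer (V' : Set G) →
      Nat.card ↥((S : Subgroup G) ⊓ normalizer (V : Set G)) <
        Nat.card ↥((S : Subgroup G) ⊓ normalizer (V' : Set G)) →
      Good (zjNorm S) A' m) :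
    Good (zjNorm S) A h := by
  classical
  set N := normalizer (V : Set G) with hN
  set T := (S : Subgroup G) ⊓ N with hT
  let T0 : Sylow p N := ((S.2.to_inf_left : IsPGroup p T).comap_subtype (K := N)).toSylow hext
  have hT0 : (T0 : Subgroup N).map N.subtype = T := by
    show (T.comap N.subtype).map N.subtype = T
    rw [map_comap_eq, range_subtype, inf_eq_right.mpr inf_le_right]
  obtain ⟨x, hx, hxA⟩ := CfsgLib.FusionPStable.exists_mem_normalizer_zj hp
    (CfsgLib.LocalEven.isNormalizerPStable_of_qdFree hp hVfree.qdFree) T0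
    (A := N.subtype ⁻¹' (A : Set G)) (g := ⟨h, hh⟩) (fun y hy => hA hy)
    (fun y hy => hhA (conj_mem_cj h hy))
  set V2 := centerThompsonAOf T with hV2
  have hxV2 : (x : G) ∈ normalizer (V2 : Set G) := by
    rw [hV2, ← hT0, ← CfsgLib.PLocal.map_centerThompsonAOf N.subtype_injective]
    refine mem_normalizer_of_forall_conj_mem ?_
    rintro _ ⟨y, hy, rfl⟩
    exact ⟨x * y * x⁻¹, (mem_normalizer_iff.mp hx y).mp hy, rfl⟩
  have hxA' : ∀ a ∈ A, (x : G) * a * (x : G)⁻¹ = h * a * h⁻¹ := fun a ha =>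
    congrArg Subtype.val (hxA ⟨a, (hA ha).2⟩ ha)
  have key : Good (zjNorm S) A (x : G) → Good (zjNorm S) A h := fun ⟨n, hn, hnA⟩ =>
    ⟨n, hn, fun a ha => (hnA a ha).trans (hxA' a ha)⟩
  apply key
  rcases eq_or_lt_of_le (inf_le_left : T ≤ (S : Subgroup G)) with hTS | hTlt
  · refine good_of_mem ?_
    show (x : G) ∈ normalizer (centerThompsonAOf (S : Subgroup G) : Set G)
    rwa [show V2 = centerThompsonAOf (S : Subgroup G) from hV2.trans (congrArg centerThompsonAOf hTS)]  at hxV2
  have hV2T : V2 ≤ T := CfsgLib.PLocal.centerThompsonAOf_le T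
  have hZT : (S : Subgroup G) ⊓ centralizer ((S : Subgroup G) : Set G) ≤ T := fun z hz =>
    ⟨hz.1, centralizer_le_normalizer' V (centralizer_le (SetLike.coe_subset_coe.mpr hV) hz.2)⟩
  have hZV2 : (S : Subgroup G) ⊓ centralizer ((S : Subgroup G) : Set G) ≤ V2 :=
    (le_inf hZT (inf_le_right.trans
      (centralizer_le (SetLike.coe_subset_coe.mpr inf_le_left)))).trans
      (inf_centralizer_le_centerThompsonAOf T)
  have hNT : (S : Subgroup G) ⊓ normalizer (T : Set G) ≤
      (S : Subgroup G) ⊓ normalizer (V2 : Set G) :=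
    inf_le_inf_left _ (CfsgLib.PLocal.normalizer_le_normalizer_centerThompsonAOf T)
  have hT' : T < (S : Subgroup G) ⊓ normalizer (V2 : Set G) :=
    (lt_inf_normalizer S.2 hTlt).trans_le hNT
  refine hL V2 A x (hV2T.trans inf_le_left) (hfree V2 hZV2 (hV2T.trans inf_le_left)) hxV2
    (hA.trans hT'.le) ?_ ?_
  · refine cj_le_iff.mpr fun a ha => ?_
    rw [hxA' a ha]
    exact hT'.le (hhA (conj_mem_cj h ha))
  · by_contra hc
    exact hT'.ne (eq_of_le_of_card_ge hT'.le (not_lt.mp hc))

theorem stepL (hp : p ≠ 2) {S : Sylow p G}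
    (hfree : ∀ P : Subgroup G, (S : Subgroup G) ⊓ centralizer ((S : Subgroup G) : Set G) ≤ P →
      P ≤ (S : Subgroup G) → Free p P)
    {V A : Subgroup G} {h : G} (hV : V ≤ S) (hVfree : Free p V)
    (hh : h ∈ normalizer (V : Set G)) (hA : A ≤ (S : Subgroup G) ⊓ normalizer (V : Set G))
    (hhA : h *• A ≤ (S : Subgroup G) ⊓ normalizer (V : Set G))
    (hP : ∀ (R' : Subgroup G) (g' : G), R' ≤ S → g' *• R' ≤ S →
      Nat.card ↥((S : Subgroup G) ⊓ normalizer (V : Set G)) ≤ Nat.card R' →
      Good (zjNorm S) R' g')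
    (hL : ∀ (V' A' : Subgroup G) (m : G), V' ≤ S → Free p V' → m ∈ normalizer (V' : Set G) →
      A' ≤ (S : Subgroup G) ⊓ normalizer (V' : Set G) →
      m *• A' ≤ (S : Subgroup G) ⊓ normalizer (V' : Set G) →
      Nat.card ↥((S : Subgroup G) ⊓ normalizer (V : Set G)) <
        Nat.card ↥((S : Subgroup G) ⊓ normalizer (V' : Set G)) →
      Good (zjNorm S) A' m) :
    Good (zjNorm S) A h := by
  classical
  obtain ⟨a, haV, haext, haT⟩ := exists_extremal_conj (isSylowIn_top S) hV
  set T := (S : Subgroup G) ⊓ normalizer (V : Set G) with hT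
  set T' := (S : Subgroup G) ⊓ normalizer ((a *• V : Subgroup G) : Set G) with hT'
  have hga : Good (zjNorm S) T a := hP T a inf_le_left haT le_rfl
  have hTT' : a *• T ≤ T' := le_inf haT (by rw [normalizer_cj]; exact cj_mono a inf_le_right)
  set m := a * h * a⁻¹ with hm
  have hmV : m ∈ normalizer ((a *• V : Subgroup G) : Set G) := by
    rw [normalizer_cj]; exact conj_mem_cj a hh
  have hmA : m *• (a *• A) ≤ T' := by
    have e : m *• (a *• A) = a *• (h *• A) := by
      rw [cj_cj, cj_cj, hm]; congr 2; group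
    rw [e]; exact (cj_mono a hhA).trans hTT'
  have haA : a *• A ≤ T' := (cj_mono a hA).trans hTT'
  have hcard : Nat.card T ≤ Nat.card T' := by
    rw [← card_cj a T]; exact Nat.le_of_dvd Nat.card_pos (card_dvd_of_le hTT')
  have hgm : Good (zjNorm S) (a *• A) m := by
    rcases hcard.eq_or_lt with he | hlt
    · exact stepL_extremal hp hfree haV (hVfree.cj a) haext hmV haA hmA
        fun V' A' m' h1 h2 h3 h4 h5 h6 => hL V' A' m' h1 h2 h3 h4 h5 (he ▸ h6)
    · exact hL _ _ m haV (hVfree.cj a) hmV haA hmA hlt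
  have h1 : Good (zjNorm S) A (m * a) := (hga.mono hA).mul hgm
  have h2 : Good (zjNorm S) (a *• (h *• A)) a⁻¹ := (hga.mono hhA).inv
  have h3 : (m * a) *• A = a *• (h *• A) := by
    rw [cj_cj, hm]; congr 2; group
  have h4 := h1.mul (h3 ▸ h2)
  rwa [show a⁻¹ * (m * a) = h by rw [hm]; group] at h4

/-- Strong fusion of `S` is controlled by `N(Z(J(S)))`. -/
theorem good_of_le (hp : p ≠ 2) {S : Sylow p G}
    (hfree : ∀ P : Subgroup G, (S : Subgroup G) ⊓ centralizer ((S : Subgroup G) : Set G) ≤ P →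
      P ≤ (S : Subgroup G) → Free p P)
    {R : Subgroup G} {g : G} (hR : R ≤ S) (hgR : g *• R ≤ S) : Good (zjNorm S) R g := by
  classical
  suffices H : ∀ k : ℕ,
      (∀ (R : Subgroup G) (g : G), R ≤ S → g *• R ≤ S →
        Nat.card (S : Subgroup G) ≤ Nat.card R + k → Good (zjNorm S) R g) ∧
      (∀ (V A : Subgroup G) (m : G), V ≤ S → Free p V → m ∈ normalizer (V : Set G) →
        A ≤ (S : Subgroup G) ⊓ normalizer (V : Set G) →
        m *• A ≤ (S : Subgroup G) ⊓ normalizer (V : Set G) →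
        Nat.card (S : Subgroup G) ≤ Nat.card ↥((S : Subgroup G) ⊓ normalizer (V : Set G)) + k →
        Good (zjNorm S) A m) from
    (H (Nat.card (S : Subgroup G))).1 R g hR hgR (Nat.le_add_left _ _)
  intro k
  induction k using Nat.strong_induction_on with
  | _ k ih =>
    have hle : ∀ X : Subgroup G, X ≤ S → Nat.card X ≤ Nat.card (S : Subgroup G) :=
      fun X hX => Nat.le_of_dvd Nat.card_pos (card_dvd_of_le hX)
    have hPk : ∀ (R : Subgroup G) (g : G), R ≤ S → g *• R ≤ S →
        Nat.card (S : Subgroup G) ≤ Nat.card R + k → Good (zjNorm S) R g := by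
      intro R g hR hgR hk
      refine stepP hfree hR hgR (fun R' g' hR' hgR' hlt => ?_)
        (fun V A m hV hf hm hA hmA hlt => ?_)
      · exact (ih (Nat.card (S : Subgroup G) - Nat.card R') (by have := hle R' hR'; omega)).1
          R' g' hR' hgR' (by omega)
      · exact (ih (Nat.card (S : Subgroup G) -
          Nat.card ↥((S : Subgroup G) ⊓ normalizer (V : Set G)))
          (by have := hle _ (inf_le_left : (S : Subgroup G) ⊓ normalizer (V : Set G) ≤ _); omega)).2
          V A m hV hf hm hA hmA (by omega)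
    refine ⟨hPk, fun V A m hV hf hm hA hmA hk => ?_⟩
    refine stepL hp hfree hV hf hm hA hmA (fun R' g' hR' hgR' h' => hPk R' g' hR' hgR' (by omega))
      (fun V' A' m' h1 h2 h3 h4 h5 hlt => ?_)
    exact (ih (Nat.card (S : Subgroup G) -
      Nat.card ↥((S : Subgroup G) ⊓ normalizer (V' : Set G)))
      (by have := hle _ (inf_le_left : (S : Subgroup G) ⊓ normalizer (V' : Set G) ≤ _); omega)).2
      V' A' m' h1 h2 h3 h4 h5 (by omega)

end CfsgLib.LocalEven.LocallyFree
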