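import Cfsg.Prelude.Def_EvenType
import Cfsg.Agent.EvenType.StronglyEmbedded

/-!
# Equivalent forms of strong `p`-embedding

* `isStronglyPEmbedded_iff_normalizer`: all normalizers of nontrivial `p`-subgroups of `M` lie in `M`.
* `isStronglyPEmbedded_iff_inter_conj`: `M` meets its other conjugates in subgroups of order prime to `p`.
-/

set_option autoImplicit false

namespace CfsgLib.LocalEven

open Subgroup
open scoped Pointwise

variable {G : Type*} [Group G] {p : ℕ} [hp : Fact p.Prime]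

omit hp in
lemma ne_bot_of_not_pRankLE {Q : Subgroup G} (h : ¬ Cfsg.PRankLE p 0 ↥Q) : Q ≠ ⊥ := by
  rintro rfl
  exact h fun A _ _ => by simp [Subsingleton.elim A ⊥]

variable [Finite G]

/-- The hypothesis "normalizers of nontrivial `p`-subgroups of `M` lie in `M`". -/
abbrev NormalizersLE (p : ℕ) (M : Subgroup G) : Prop :=
  ∀ A : Subgroup G, A ≤ M → IsPGroup p ↥A → A ≠ ⊥ → normalizer (A : Set G) ≤ M

lemma le_of_inf_ne_bot {M : Subgroup G} (hN : NormalizersLE p M) (P : Sylow p G)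
    (h : (P : Subgroup G) ⊓ M ≠ ⊥) : (P : Subgroup G) ≤ M := by
  by_contra hne
  set U := M.subgroupOf (P : Subgroup G) with hU
  have hUne : U < ⊤ := by
    rw [lt_top_iff_ne_top, ne_eq, subgroupOf_eq_top]; exact hne
  haveI : Group.IsNilpotent ↥(P : Subgroup G) := P.isPGroup'.isNilpotent
  obtain ⟨y, hy, hyU⟩ := SetLike.exists_of_lt (Group.normalizerCondition_of_isNilpotent U hUne)
  refine hyU (mem_subgroupOf.mpr (hN _ inf_le_right (P.isPGroup'.to_le inf_le_left) h ?_))
  rw [mem_normalizer_iff] at hy ⊢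
  intro z
  by_cases hz : z ∈ (P : Subgroup G)
  · have hyz : (y : G) * z * (y : G)⁻¹ ∈ (P : Subgroup G) := mul_mem (mul_mem y.2 hz) (inv_mem y.2)
    have := hy ⟨z, hz⟩
    simp only [hU, mem_subgroupOf, Subgroup.coe_mul, Subgroup.coe_inv] at this
    simp [mem_inf, hz, hyz, this]
  · refine iff_of_false (fun hz' => hz hz'.1) fun hz' => hz ?_
    have := mul_mem (mul_mem (inv_mem y.2) hz'.1) y.2
    simpa [mul_assoc] using this

/-- If `M` has order divisible by `p` and contains all those normalizers, it contains a Sylow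
`p`-subgroup of `G`. -/
lemma exists_sylow_le_of_normalizersLE {M : Subgroup G} (hN : NormalizersLE p M)
    (hM : p ∣ Nat.card M) : ∃ P : Sylow p G, (P : Subgroup G) ≠ ⊥ ∧ (P : Subgroup G) ≤ M := by
  obtain ⟨x, hx⟩ := exists_prime_orderOf_dvd_card' (G := ↥M) p hM
  have hx' : orderOf (x : G) = p := by rw [orderOf_coe, hx]
  obtain ⟨P, hP⟩ := (IsPGroup.of_card (p := p) (n := 1)
    (show Nat.card (zpowers (x : G)) = p ^ 1 by rw [Nat.card_zpowers, hx', pow_one])).exists_le_sylow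
  have hne : (P : Subgroup G) ⊓ M ≠ ⊥ := fun e => by
    have h1 : (x : G) ∈ (⊥ : Subgroup G) := e ▸ ⟨hP (mem_zpowers _), x.2⟩
    rw [mem_bot.mp h1, orderOf_one] at hx'
    exact hp.out.ne_one hx'.symm
  exact ⟨P, fun e => hne (by rw [e, bot_inf_eq]), le_of_inf_ne_bot hN P hne⟩

/-- Normalizers of `p`-subgroups of `M` inside `M` give strong `p`-embedding. -/
theorem isStronglyPEmbedded_of_normalizersLE {M : Subgroup G} (hM : M ≠ ⊤)
    (hpM : p ∣ Nat.card M) (hN : NormalizersLE p M) : Cfsg.IsStronglyPEmbedded p M := by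
  obtain ⟨P, -, hPM⟩ := exists_sylow_le_of_normalizersLE hN hpM
  refine ⟨hpM.trans (card_subgroup_dvd_card M), hM, P, iSup_le fun Q => ?_⟩
  exact hN _ (Q.2.1.trans hPM) (P.isPGroup'.to_le Q.2.1) (ne_bot_of_not_pRankLE Q.2.2)

lemma dvd_card_of_isStronglyPEmbedded {M : Subgroup G} (h : Cfsg.IsStronglyPEmbedded p M) :
    p ∣ Nat.card M := by
  obtain ⟨P, hne, hP, -⟩ := CfsgLib.EvenType.exists_sylow_le_of_isStronglyPEmbedded h
  exact (P.dvd_card_of_dvd_card h.1).trans (card_dvd_of_le hP)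

theorem isStronglyPEmbedded_iff_normalizer {M : Subgroup G} (hM : M ≠ ⊤) (hpM : p ∣ Nat.card M) :
    Cfsg.IsStronglyPEmbedded p M ↔ NormalizersLE p M :=
  ⟨fun h _ hA hAp hne => CfsgLib.EvenType.normalizer_le_of_isStronglyPEmbedded h hA hAp hne,
    isStronglyPEmbedded_of_normalizersLE hM hpM⟩

/-- The classical condition gives the condition on normalizers. -/
lemma normalizersLE_of_inter_conj {M : Subgroup G}
    (h : ∀ g : G, g ∉ M → ¬ p ∣ Nat.card ↥(M ⊓ M.map (MulAut.conj g).toMonoidHom)) :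
    NormalizersLE p M := by
  intro A hA hAp hne g hg
  by_contra hgM
  refine h g hgM ?_
  have hAg : A ≤ M ⊓ M.map (MulAut.conj g).toMonoidHom := by
    refine le_inf hA fun a ha => ⟨g⁻¹ * a * g, hA ?_, by simp [mul_assoc]⟩
    exact (mem_normalizer_iff''.mp hg a).mp ha
  refine dvd_trans ?_ (card_dvd_of_le hAg)
  haveI := (nontrivial_iff_ne_bot A).mpr hne
  exact (hAp.card_eq_or_dvd).resolve_left Finite.one_lt_card.ne'

lemma inter_conj_of_normalizersLE {M : Subgroup G} (hN : NormalizersLE p M)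
    (hpM : p ∣ Nat.card M) (g : G) (hg : g ∉ M) :
    ¬ p ∣ Nat.card ↥(M ⊓ M.map (MulAut.conj g).toMonoidHom) := by
  intro hdvd
  obtain ⟨P, -, hPM⟩ := exists_sylow_le_of_normalizersLE hN hpM
  obtain ⟨⟨x, hxM, y, hyM, rfl⟩, hx⟩ := exists_prime_orderOf_dvd_card'
    (G := ↥(M ⊓ M.map (MulAut.conj g).toMonoidHom)) p hdvd
  rw [← orderOf_coe] at hx
  simp only [MulEquiv.coe_toMonoidHom] at hx hxM
  rw [(MulAut.conj g).orderOf_eq] at hx
  -- a Sylow subgroup of `G` inside `M` containing `y`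
  obtain ⟨Q, hQ⟩ := (IsPGroup.of_card (p := p) (n := 1)
    (show Nat.card (zpowers y) = p ^ 1 by rw [Nat.card_zpowers, hx, pow_one])).exists_le_sylow
  have hQy : y ∈ (Q : Subgroup G) := hQ (mem_zpowers y)
  have hy1 : y ≠ 1 := fun e => by simp [e] at hx; exact hp.out.ne_one hx.symm
  have key : ∀ R : Sylow p G, (R : Subgroup G) ≤ M → ∃ m ∈ M, MulAut.conj m • (P : Subgroup G) = R := by
    intro R hR
    obtain ⟨m, hm⟩ := MulAction.exists_smul_eq ↥M (P.subtype hPM) (R.subtype hR)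
    refine ⟨m, m.2, ?_⟩
    have h1 := congrArg (fun S : Sylow p ↥M => (S : Subgroup ↥M).map M.subtype) hm
    simp only [Sylow.coe_subtype, Subgroup.subgroupOf_map_subtype, inf_eq_left.mpr hR] at h1
    rw [← h1, Sylow.coe_subgroup_smul, Sylow.coe_subtype]
    ext z
    simp only [mem_pointwise_smul_iff_inv_smul_mem, mem_map, MulAut.smul_def, mem_subgroupOf]
    constructor
    · intro hz
      have hzM : z ∈ M := by
        have := mul_mem (mul_mem m.2 (hPM hz)) (inv_mem m.2)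
        simpa [mul_assoc] using this
      exact ⟨⟨z, hzM⟩, by simpa using hz, rfl⟩
    · rintro ⟨w, hw, rfl⟩
      simpa using hw
  have hQM : (Q : Subgroup G) ≤ M :=
    le_of_inf_ne_bot hN Q fun e => hy1 (mem_bot.mp (e ▸ ⟨hQy, hyM⟩))
  have hgQM : ((g • Q : Sylow p G) : Subgroup G) ≤ M := by
    refine le_of_inf_ne_bot hN _ fun e => ?_
    have h1 : MulAut.conj g y ∈ (⊥ : Subgroup G) := e ▸ ⟨by
      rw [Sylow.coe_subgroup_smul]
      exact smul_mem_pointwise_smul _ _ _ hQy, hxM⟩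
    exact hy1 ((MulAut.conj g).injective (by simpa using h1))
  obtain ⟨m₁, hm₁, e₁⟩ := key Q hQM
  obtain ⟨m₂, hm₂, e₂⟩ := key _ hgQM
  rw [Sylow.coe_subgroup_smul, ← e₁, smul_smul, ← map_mul] at e₂
  have hmem : m₂⁻¹ * (g * m₁) ∈ normalizer ((P : Subgroup G) : Set G) := by
    refine mem_normalizer_iff.mpr fun z => ?_
    have h3 : MulAut.conj (m₂⁻¹ * (g * m₁)) • (P : Subgroup G) = P := by
      rw [map_mul, mul_smul, ← e₂, smul_smul, ← map_mul, inv_mul_cancel, map_one, one_smul]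
    conv_rhs => rw [← h3, mem_pointwise_smul_iff_inv_smul_mem]
    simp [mul_assoc]
  have hPne : (P : Subgroup G) ≠ ⊥ :=
    P.ne_bot_of_dvd_card (hpM.trans (card_subgroup_dvd_card M))
  have := mul_mem (mul_mem hm₂ (hN _ hPM P.isPGroup' hPne hmem)) (inv_mem hm₁)
  exact hg (by simpa [mul_assoc] using this)

theorem isStronglyPEmbedded_iff_inter_conj {M : Subgroup G} (hM : M ≠ ⊤) (hpM : p ∣ Nat.card M) :
    Cfsg.IsStronglyPEmbedded p M ↔
      ∀ g : G, g ∉ M → ¬ p ∣ Nat.card ↥(M ⊓ M.map (MulAut.conj g).toMonoidHom) :=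
  ⟨fun h => inter_conj_of_normalizersLE ((isStronglyPEmbedded_iff_normalizer hM hpM).mp h) hpM,
    fun h => isStronglyPEmbedded_of_normalizersLE hM hpM (normalizersLE_of_inter_conj h)⟩

end CfsgLib.LocalEven
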