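import Cfsg.Agent.LocalEven.QdSection
import Cfsg.Agent.Techniques.StableFusion
import Cfsg.Agent.ConjFunctor.MainCor
import Cfsg.Agent.PLocal.ZJTheorem

/-!
# `Qd(p)`-freeness and control of strong fusion by `Z(J(S))`

* `controlsStrongFusion_centerThompsonA`: in a `Qd(p)`-free group, `p` odd, `Z(J(S))` controls
  strong fusion.
* `exists_not_controls_of_mulEquiv_qd`: in `Qd(p)` itself it does not.
-/

set_option autoImplicit false

universe u

namespace CfsgLib.LocalEven

open Subgroup Matrix Cfsg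
open scoped MatrixGroups

variable {p : ℕ} [Fact p.Prime]

/-- Sections of a `Qd(p)`-free group are `p`-stable. -/
theorem isNormalizerPStable_section {G : Type*} [Group G] [Finite G] (hp : p ≠ 2)
    (hfree : ¬ Cfsg.Involves ↥(Cfsg.qd p) G) (K R : Subgroup G) [(R.subgroupOf K).Normal] :
    Cfsg.IsNormalizerPStable p (↥K ⧸ R.subgroupOf K) := by
  refine isNormalizerPStable_of_qdFree hp fun h => hfree ?_
  obtain ⟨L, f, hf⟩ := CfsgLib.QdFree.exists_surjective_of_involves_quotient _ h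
  exact involves_of_hom K (MonoidHom.id K) Function.surjective_id
    (involves_of_surjective L f hf)

/-- In a `Qd(p)`-free group `N(Z(J(S)))` controls strong fusion. -/
theorem controlsStrongFusion_centerThompsonA {G : Type u} [Group G] [Finite G] (hp : p ≠ 2)
    (hfree : ¬ Cfsg.Involves ↥(Cfsg.qd p) G) (S : Sylow p G) :
    Cfsg.ControlsStrongFusion p (Cfsg.centerThompsonAOf (S : Subgroup G)) := by
  open CfsgLib.ConjFunctor CfsgLib.Techniques in
  have h := familyFusion_section (p := p) (𝓦 := {@zjFun}) (fun V hV => by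
    rw [Set.mem_singleton_iff] at hV; subst hV; exact isCharPFunctor_zjFun) (G := G)
    (fun K R hR hc => by
      obtain ⟨T⟩ := (inferInstance : Nonempty (Sylow p (↥K ⧸ R.subgroupOf K)))
      refine familyControlsStrongFusionIn_iff.mpr ⟨_, isSylowIn_top T, fun A g _ hA hgA => ?_⟩
      have hn := CfsgLib.OddOrder.ZJ.centerThompsonAOf_normal hp
        (quadraticStable_of_stable (isNormalizerPStable_section hp hfree K R)) hc T
      rw [← inducedFunctor_zjFun] at hn
      refine Fus.single hA (M := ⊤ ⊓ Subgroup.normalizer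
        ((inducedFunctor @zjFun (T : Subgroup (↥K ⧸ R.subgroupOf K)) : Subgroup _) :
          Set (↥K ⧸ R.subgroupOf K)))
        ⟨_, ⟨@zjFun, rfl, rfl⟩, rfl⟩ ?_ (cjSet_subset_iff.mp hgA)
      exact ⟨trivial, (Subgroup.normalizer_eq_top_iff.mpr hn).symm ▸ Subgroup.mem_top g⟩)
    G (involves_equiv (MulEquiv.refl G))
  rw [show CfsgLib.ConjFunctor.indFam {@CfsgLib.Techniques.zjFun} G =
    {Cfsg.inducedFunctor @CfsgLib.Techniques.zjFun} from Set.image_singleton] at h
  rw [← CfsgLib.Techniques.inducedFunctor_zjFun]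
  exact CfsgLib.ConjFunctor.controlsStrongFusion_of_family
    (CfsgLib.ConjFunctor.isConjugacyFunctor_induced CfsgLib.Techniques.isCharPFunctor_zjFun) h S

/-- In `Qd(p)` some element of `Z(J(T))` is conjugate to a translation outside `Z(J(T))`. -/
theorem qd_exists_moved :
    ∃ (T : Sylow p ↥(Cfsg.qdOver (ZMod p))) (z g : ↥(Cfsg.qdOver (ZMod p))),
      Cfsg.centerThompsonAOf (T : Subgroup ↥(Cfsg.qdOver (ZMod p))) ≤ QdOver.transl (ZMod p) ∧
      z ∈ Cfsg.centerThompsonAOf (T : Subgroup ↥(Cfsg.qdOver (ZMod p))) ∧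
      g * z * g⁻¹ ∈ QdOver.transl (ZMod p) ∧
      g * z * g⁻¹ ∉ Cfsg.centerThompsonAOf (T : Subgroup ↥(Cfsg.qdOver (ZMod p))) := by
  classical
  set U : Subgroup ↥(Cfsg.qdOver (ZMod p)) :=
    (CfsgLib.Linear.upperSL (F := ZMod p)).comap QdOver.block with hU
  have hUp : IsPGroup p U := by
    refine (CfsgLib.Linear.isPGroup_upperSL (F := ZMod p) (p := p)).comap_of_ker_isPGroup _ ?_
    exact QdOver.isPGroup_transl
  have hidx : ¬ p ∣ U.index := by
    rw [hU, Subgroup.index_comap_of_surjective _ QdOver.block_surjective,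
      CfsgLib.Linear.index_upperSL]
    exact CfsgLib.Linear.not_dvd_pow_sub_one p two_ne_zero
  let T : Sylow p ↥(Cfsg.qdOver (ZMod p)) := hUp.toSylow hidx
  have hT : (T : Subgroup ↥(Cfsg.qdOver (ZMod p))) = U := rfl
  have hmemU : ∀ M, M ∈ U ↔ ∃ b x y, M = QdOver.mk (1 : ZMod p) b 0 1 x y (by ring) := fun M => by
    constructor
    · intro hM
      obtain ⟨a, b, c, d, x, y, h, rfl⟩ := QdOver.exists_eq_mk M
      obtain ⟨t, ht⟩ := CfsgLib.Linear.mem_upperSL.mp (mem_comap.mp hM)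
      rw [QdOver.block_mk] at ht
      have h' := congrArg (fun N : SL(2, ZMod p) => N.1) ht
      simp only [QdOver.sl2_val, CfsgLib.Linear.upperUni_val] at h'
      exact ⟨b, x, y, QdOver.mk_congr (by simpa using (congrFun (congrFun h' 0) 0).symm) rfl
        (by simpa using (congrFun (congrFun h' 1) 0).symm)
        (by simpa using (congrFun (congrFun h' 1) 1).symm) rfl rfl⟩
    · rintro ⟨b, x, y, rfl⟩
      rw [hU, mem_comap, QdOver.block_mk]
      refine CfsgLib.Linear.mem_upperSL.mpr ⟨b, Subtype.ext ?_⟩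
      rw [QdOver.sl2_val, CfsgLib.Linear.upperUni_val]
  let param : ZMod p → ZMod p → ZMod p → ↥(Cfsg.qdOver (ZMod p)) :=
    fun b x y => QdOver.mk (1 : ZMod p) b 0 1 x y (by ring)
  have hmul : ∀ b x y b' x' y', param b x y * param b' x' y' =
      param (b + b') (x + x' + b * y') (y + y') := fun b x y b' x' y' => by
    show QdOver.mk _ _ _ _ _ _ _ * QdOver.mk _ _ _ _ _ _ _ = QdOver.mk _ _ _ _ _ _ _
    rw [QdOver.mk_mul]
    exact QdOver.mk_congr (by ring) (by ring) (by ring) (by ring) (by ring) (by ring)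
  have hpinj : ∀ {b x y b' x' y'}, param b x y = param b' x' y' → b = b' ∧ x = x' ∧ y = y' :=
    fun h => by
      obtain ⟨-, h2, -, -, h5, h6⟩ := QdOver.mk_inj h
      exact ⟨h2, h5, h6⟩
  have htr : ∀ x y, QdOver.tr x y = param 0 x y := fun x y => rfl
  -- abelian subgroups of `U` have order at most `p ^ 2`
  have hbound : ∀ B : Subgroup ↥(Cfsg.qdOver (ZMod p)), B ≤ U → IsMulCommutative B →
      Nat.card B ≤ Nat.card (ZMod p × ZMod p) := by
    intro B hBU hB
    have hcomm : ∀ {b x y b' x' y'}, param b x y ∈ B → param b' x' y' ∈ B → b * y' = b' * y :=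
      fun h h' => by
        have e := congrArg Subtype.val (hB.is_comm.comm ⟨_, h⟩ ⟨_, h'⟩)
        simp only [Subgroup.coe_mul, hmul] at e
        linear_combination (hpinj e).2.1
    choose cb cx cy hc using fun M : B => (hmemU M.1).mp (hBU M.2)
    have hcm : ∀ M : B, param (cb M) (cx M) (cy M) ∈ B := fun M => (congrArg (· ∈ B) (hc M)).mp M.2
    by_cases h0 : ∀ M : B, cb M = 0
    · refine Nat.card_le_card_of_injective (fun M => (cx M, cy M)) fun M N h => ?_
      simp only [Prod.mk.injEq] at h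
      exact Subtype.ext (by rw [hc M, hc N]; simp [h0, h.1, h.2])
    · push Not at h0
      obtain ⟨M₀, hM₀⟩ := h0
      refine Nat.card_le_card_of_injective (fun M => (cb M, cx M)) fun M N h => ?_
      simp only [Prod.mk.injEq] at h
      have hy : cy M = cy N := by
        have e1 := hcomm (hcm M₀) (hcm M)
        have e2 := hcomm (hcm M₀) (hcm N)
        rw [h.1] at e1
        exact mul_left_cancel₀ hM₀ (e1.trans e2.symm)
      exact Subtype.ext (by rw [hc M, hc N]; simp [h.1, h.2, hy])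
  have hcardtr : Nat.card (QdOver.transl (ZMod p)) = Nat.card (ZMod p × ZMod p) := by
    symm
    refine Nat.card_congr (Equiv.ofBijective (fun v => ⟨QdOver.tr v.1 v.2, QdOver.tr_mem _ _⟩) ⟨?_, ?_⟩)
    · intro v w h
      obtain ⟨-, h2, h3⟩ := hpinj (congrArg Subtype.val h)
      exact Prod.ext h2 h3
    · rintro ⟨M, hM⟩
      obtain ⟨x, y, rfl⟩ := QdOver.exists_eq_tr hM
      exact ⟨(x, y), rfl⟩
  let A : Subgroup ↥(Cfsg.qdOver (ZMod p)) :=
    { carrier := {M | ∃ b x, M = param b x 0}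
      one_mem' := ⟨0, 0, QdOver.mk_one.symm⟩
      mul_mem' := by
        rintro _ _ ⟨b, x, rfl⟩ ⟨b', x', rfl⟩
        exact ⟨b + b', x + x', by rw [hmul]; simp⟩
      inv_mem' := by
        rintro _ ⟨b, x, rfl⟩
        refine ⟨-b, -x, inv_eq_of_mul_eq_one_right ?_⟩
        rw [hmul]
        simpa using QdOver.mk_one }
  have hAU : A ≤ U := by
    rintro _ ⟨b, x, rfl⟩
    exact (hmemU _).mpr ⟨b, x, 0, rfl⟩
  have hAab : IsMulCommutative A := ⟨⟨fun ⟨_, b, x, hM⟩ ⟨_, b', x', hN⟩ => Subtype.ext (by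
    simp only [Subgroup.coe_mul, hM, hN, hmul]
    simp [add_comm])⟩⟩
  have hAcard : Nat.card (ZMod p × ZMod p) ≤ Nat.card A :=
    Nat.card_le_card_of_injective (fun v => ⟨param v.1 v.2 0, v.1, v.2, rfl⟩) fun v w h => by
      obtain ⟨h1, h2, -⟩ := hpinj (congrArg Subtype.val h)
      exact Prod.ext h1 h2
  have htrU : QdOver.transl (ZMod p) ≤ U := fun M hM => by
    obtain ⟨x, y, rfl⟩ := QdOver.exists_eq_tr hM
    exact (hmemU _).mpr ⟨0, x, y, rfl⟩
  have htrab : IsMulCommutative (QdOver.transl (ZMod p)) := ⟨⟨fun ⟨_, hM⟩ ⟨_, hN⟩ => Subtype.ext (by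
    obtain ⟨x, y, rfl⟩ := QdOver.exists_eq_tr hM
    obtain ⟨x', y', rfl⟩ := QdOver.exists_eq_tr hN
    simp only [Subgroup.coe_mul, QdOver.tr_mul, add_comm])⟩⟩
  have hAmax : A ∈ CfsgLib.PLocal.maxAbIn U :=
    ⟨hAU, hAab, fun B hB hB' => (hbound B hB hB').trans hAcard⟩
  have hTmax : QdOver.transl (ZMod p) ∈ CfsgLib.PLocal.maxAbIn U :=
    ⟨htrU, htrab, fun B hB hB' => hcardtr ▸ hbound B hB hB'⟩
  have hle : ∀ {B}, B ∈ CfsgLib.PLocal.maxAbIn U → Cfsg.centerThompsonAOf U ≤ B := fun hB => by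
    rw [CfsgLib.PLocal.centerThompsonAOf_eq_sInf]
    exact sInf_le hB
  refine ⟨T, QdOver.tr 1 0, QdOver.emb (QdOver.sl2 0 (-1) 1 0 (by ring)), hle hTmax, ?_, ?_, ?_⟩
  · refine ⟨CfsgLib.PLocal.le_thompsonSubgroupAOf hTmax (QdOver.tr_mem 1 0),
      mem_centralizer_iff.mpr fun M hM => ?_⟩
    obtain ⟨b, x, y, rfl⟩ := (hmemU M).mp (CfsgLib.PLocal.thompsonSubgroupAOf_le _ hM)
    show param b x y * QdOver.tr 1 0 = QdOver.tr 1 0 * param b x y
    rw [htr, hmul, hmul]
    simp [add_comm]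
  · rw [QdOver.mk_conj_tr]
    exact QdOver.tr_mem _ _
  · intro h
    obtain ⟨b, x, hbx⟩ := hle hAmax h
    rw [QdOver.mk_conj_tr, htr] at hbx
    have h3 := (hpinj hbx).2.2
    simp [QdOver.sl2_val] at h3

/-- A group isomorphic to `Qd(p)` has a Sylow subgroup whose `Z(J)` does not control strong
fusion. -/
theorem exists_not_controls_of_mulEquiv_qd {X : Type*} [Group X] (e : X ≃* ↥(Cfsg.qd p)) :
    ∃ T : Sylow p X, ¬ Cfsg.ControlsStrongFusion p (Cfsg.centerThompsonAOf (T : Subgroup X)) := by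
  haveI : Finite X := Finite.of_equiv _ e.toEquiv.symm
  obtain ⟨T₀, z, g, hle, hz, hg, hgn⟩ := qd_exists_moved (p := p)
  let e' : X ≃* ↥(Cfsg.qdOver (ZMod p)) := e
  let T : Sylow p X := Sylow.comapOfInjective T₀ e'.toMonoidHom e'.injective (by
    rw [MonoidHom.range_eq_top.mpr e'.surjective]; exact le_top)
  have hT : (T : Subgroup X).map e'.toMonoidHom = T₀ :=
    map_comap_eq_self_of_surjective e'.surjective _
  have hmem : ∀ x : X, x ∈ Cfsg.centerThompsonAOf (T : Subgroup X) ↔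
      e' x ∈ Cfsg.centerThompsonAOf (T₀ : Subgroup ↥(Cfsg.qdOver (ZMod p))) := fun x => by
    rw [← hT, ← CfsgLib.PLocal.map_centerThompsonAOf (f := e'.toMonoidHom) e'.injective]
    exact (mem_map_iff_mem e'.injective).symm
  refine ⟨T, ?_⟩
  rintro ⟨T', hT', h⟩
  set P : Subgroup X := (QdOver.transl (ZMod p)).comap e'.toMonoidHom with hP
  haveI : P.Normal := Subgroup.Normal.comap inferInstance _
  have hPT : P ≤ (T' : Subgroup X) :=
    (CfsgLib.PLocal.le_pCore ((QdOver.isPGroup_transl (F := ZMod p)).comap_of_injective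
      e'.toMonoidHom e'.injective)).trans (CfsgLib.PLocal.pCore_le_sylow T')
  set z' := e'.symm z
  set g' := e'.symm g
  have hz' : z' ∈ Cfsg.centerThompsonAOf (T : Subgroup X) := (hmem _).mpr (by
    simpa [z'] using hz)
  obtain ⟨-, hc⟩ := h {z'} (Set.singleton_subset_iff.mpr (hT' hz'))
  obtain ⟨x, hx, hxz⟩ := hc g' (by
    rintro _ ⟨a, rfl, rfl⟩
    exact hPT (show e' (g' * z' * g'⁻¹) ∈ QdOver.transl (ZMod p) by simpa [g', z'] using hg))
  have hmem' : g' * z' * g'⁻¹ ∈ Cfsg.centerThompsonAOf (T : Subgroup X) := by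
    rw [hxz z' rfl]
    exact (mem_normalizer_iff.mp hx z').mp hz'
  exact hgn (by simpa [g', z'] using (hmem _).mp hmem')

end CfsgLib.LocalEven
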