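import Cfsg.Agent.LocalEven.QuadraticPlane
import Cfsg.Agent.LocalEven.QdOver
import Cfsg.Agent.LocalEven.Involves
import Cfsg.Agent.PLocal.PStability
import Cfsg.Agent.QdFree.Basic

/-!
# `Qd(p)`-freeness and `p`-stability

* `involves_qd_of_natural`: an embedded natural module realised by inner automorphisms gives a
  section `Qd(p)`.
* `involves_qd_of_quadratic_pair`: so does a pair of quadratic elements generating a non-`p`-group
  on an elementary abelian group.
* `isNormalizerPStable_of_qdFree` and, conversely, `not_isNormalizerPStable_of_mulEquiv_qd`.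
-/

set_option autoImplicit false

namespace CfsgLib.LocalEven

open Subgroup Matrix
open scoped MatrixGroups commutatorElement IsMulCommutative

variable {G : Type*} [Group G] {p : ℕ} [Fact p.Prime]

/-- A group acting on an embedded plane through all of `SL₂(p)`, with a subgroup meeting the plane
trivially and covering `SL₂(p)`, has a section `Qd(p)`. -/
theorem involves_qd_of_split {H : Type*} [Group H] (π : H →* SL(2, ZMod p))
    (t : (Fin 2 → ZMod p) → H) (hadd : ∀ v w, t (v + w) = t v * t w) (hπt : ∀ v, π (t v) = 1)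
    (hconj : ∀ h v, h * t v * h⁻¹ = t ((π h).1 *ᵥ v)) (C : Subgroup H)
    (hCsurj : ∀ M, ∃ c ∈ C, π c = M) (hCU : ∀ v, t v ∈ C → v = 0) :
    Cfsg.Involves ↥(Cfsg.qd p) H := by
  classical
  have ht0 : t 0 = 1 := by
    have h := hadd 0 0
    rwa [add_zero, left_eq_mul] at h
  have htneg : ∀ v, t (-v) = (t v)⁻¹ := fun v => by
    rw [eq_inv_iff_mul_eq_one, ← hadd, neg_add_cancel, ht0]
  have hstep : ∀ k k' v w, (t (v + (π k).1 *ᵥ w))⁻¹ * (k * k') =
      ((t v)⁻¹ * k) * ((t w)⁻¹ * k') := fun k k' v w => by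
    rw [add_comm v, hadd, ← hconj k w]
    group
  let K : Subgroup H :=
    { carrier := {k | ∃ v, (t v)⁻¹ * k ∈ C}
      one_mem' := ⟨0, by rw [ht0, inv_one, one_mul]; exact one_mem C⟩
      mul_mem' := by
        rintro k k' ⟨v, hv⟩ ⟨w, hw⟩
        exact ⟨v + (π k).1 *ᵥ w, by rw [hstep]; exact mul_mem hv hw⟩
      inv_mem' := by
        rintro k ⟨v, hv⟩
        refine ⟨-((π k⁻¹).1 *ᵥ v), ?_⟩
        rw [htneg, inv_inv, ← hconj]
        rw [show k⁻¹ * t v * k⁻¹⁻¹ * k⁻¹ = ((t v)⁻¹ * k)⁻¹ by group]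
        exact inv_mem hv }
  choose V hV using fun k : K => k.2
  have hVuniq : ∀ (k : K) v, (t v)⁻¹ * (k : H) ∈ C → V k = v := fun k v hv => by
    have h := mul_mem hv (inv_mem (hV k))
    rw [show (t v)⁻¹ * (k : H) * ((t (V k))⁻¹ * (k : H))⁻¹ = t (V k - v) by
      rw [sub_eq_neg_add, hadd, htneg]; group] at h
    exact sub_eq_zero.mp (hCU _ h)
  have hvk : ∀ k k' : K, V (k * k') = V k + (π k).1 *ᵥ V k' := fun k k' => by
    apply hVuniq
    rw [Subgroup.coe_mul, hstep]
    exact mul_mem (hV k) (hV k')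
  let f : K →* ↥(Cfsg.qdOver (ZMod p)) := MonoidHom.mk' (fun k =>
      QdOver.mk ((π k).1 0 0) ((π k).1 0 1) ((π k).1 1 0) ((π k).1 1 1) (V k 0) (V k 1)
        (QdOver.sl2_eta (π k))) fun k k' => by
    rw [QdOver.mk_mul]
    refine QdOver.mk_congr ?_ ?_ ?_ ?_ ?_ ?_
    all_goals simp only [hvk, Subgroup.coe_mul, map_mul, Matrix.SpecialLinearGroup.coe_mul,
      Matrix.mul_apply, Pi.add_apply, Matrix.mulVec, dotProduct, Fin.sum_univ_two]
    all_goals ring
  refine involves_of_surjective K f fun M => ?_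
  obtain ⟨a, b, c, d, x, w, h, rfl⟩ := QdOver.exists_eq_mk M
  obtain ⟨c₀, hc₀, hπc⟩ := hCsurj (QdOver.sl2 a b c d h)
  have hk : t ![x, w] * c₀ ∈ K := ⟨![x, w], by rw [inv_mul_cancel_left]; exact hc₀⟩
  refine ⟨⟨_, hk⟩, ?_⟩
  have hv : V ⟨_, hk⟩ = ![x, w] := hVuniq _ _ (by rw [inv_mul_cancel_left]; exact hc₀)
  refine QdOver.mk_congr (h := QdOver.sl2_eta _) ?_ ?_ ?_ ?_ ?_ ?_ <;>
    simp [hv, map_mul, hπt, hπc, QdOver.sl2_val]

/-- An embedded plane over `ZMod p` whose special linear maps are all induced by conjugation gives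
a section isomorphic to `Qd(p)`. -/
theorem involves_qd_of_natural [Finite G] (hp : p ≠ 2) (t : (Fin 2 → ZMod p) → G)
    (hadd : ∀ v w, t (v + w) = t v * t w) (hinj : Function.Injective t)
    (hnat : ∀ M : SL(2, ZMod p), ∃ g : G, ∀ v, g * t v * g⁻¹ = t (M.1 *ᵥ v)) :
    Cfsg.Involves ↥(Cfsg.qd p) G := by
  classical
  have ht0 : t 0 = 1 := by
    have h := hadd 0 0
    rwa [add_zero, left_eq_mul] at h
  have htneg : ∀ v, t (-v) = (t v)⁻¹ := fun v => by
    rw [eq_inv_iff_mul_eq_one, ← hadd, neg_add_cancel, ht0]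
  let H : Subgroup G :=
    { carrier := {g | ∃ M : SL(2, ZMod p), ∀ v, g * t v * g⁻¹ = t (M.1 *ᵥ v)}
      one_mem' := ⟨1, fun v => by simp⟩
      mul_mem' := by
        rintro g h ⟨M, hM⟩ ⟨N, hN⟩
        refine ⟨M * N, fun v => ?_⟩
        rw [Matrix.SpecialLinearGroup.coe_mul, ← Matrix.mulVec_mulVec, ← hM, ← hN]
        group
      inv_mem' := by
        rintro g ⟨M, hM⟩
        refine ⟨M⁻¹, fun v => ?_⟩
        have h := hM ((M⁻¹).1 *ᵥ v)
        rw [Matrix.mulVec_mulVec, ← Matrix.SpecialLinearGroup.coe_mul, mul_inv_cancel,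
          Matrix.SpecialLinearGroup.coe_one, Matrix.one_mulVec] at h
        rw [← h]
        group }
  have huniq : ∀ M N : SL(2, ZMod p), (∀ v, t (M.1 *ᵥ v) = t (N.1 *ᵥ v)) → M = N := fun M N h =>
    Subtype.ext (Matrix.toLin'.injective (LinearMap.ext fun v => by
      rw [Matrix.toLin'_apply, Matrix.toLin'_apply]; exact hinj (h v)))
  choose F hF using fun h : H => h.2
  let π : H →* SL(2, ZMod p) := MonoidHom.mk' F fun g h => huniq _ _ fun v => by
    rw [← hF, Matrix.SpecialLinearGroup.coe_mul, ← Matrix.mulVec_mulVec, ← hF g, ← hF h,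
      Subgroup.coe_mul]
    group
  have hπ : ∀ (h : H) v, (h : G) * t v * (h : G)⁻¹ = t ((π h).1 *ᵥ v) := hF
  have hπsurj : Function.Surjective π := fun M => by
    obtain ⟨g, hg⟩ := hnat M
    exact ⟨⟨g, M, hg⟩, huniq _ _ fun v => (hπ ⟨g, M, hg⟩ v).symm.trans (hg v)⟩
  have htH : ∀ v, t v ∈ H := fun v => ⟨1, fun w => by
    rw [← hadd, ← htneg, ← hadd, add_neg_cancel_comm, Matrix.SpecialLinearGroup.coe_one,
      Matrix.one_mulVec]⟩
  let T₀ : (Fin 2 → ZMod p) → H := fun v => ⟨t v, htH v⟩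
  have hT₀π : ∀ v, π (T₀ v) = 1 := fun v => huniq _ _ fun w => by
    rw [← hπ, Matrix.SpecialLinearGroup.coe_one, Matrix.one_mulVec]
    show t v * t w * (t v)⁻¹ = t w
    rw [← hadd, ← htneg, ← hadd, add_neg_cancel_comm]
  -- a complement: the normalizer of a Sylow `2`-subgroup over the centre of `SL₂`
  let z : SL(2, ZMod p) := ⟨-1, by simp [Matrix.det_neg]⟩
  have hzc : ∀ M : SL(2, ZMod p), M * z * M⁻¹ = z := fun M => by
    rw [mul_inv_eq_iff_eq_mul]
    apply Subtype.ext
    show M.1 * (-1) = (-1) * M.1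
    rw [mul_neg, neg_mul, mul_one, one_mul]
  have hz2 : z * z = 1 := Subtype.ext (show (-1 : Matrix (Fin 2) (Fin 2) (ZMod p)) * (-1) = 1 by simp)
  haveI : (zpowers z).Normal := ⟨fun n hn g => by
    obtain ⟨i, rfl⟩ := mem_zpowers_iff.mp hn
    rw [← conj_zpow, hzc]
    exact hn⟩
  set L : Subgroup H := (zpowers z).comap π with hL
  obtain ⟨y, hy⟩ := hπsurj z
  obtain ⟨i, m, hm, hym⟩ :=
    Nat.exists_eq_pow_mul_and_not_dvd (orderOf_pos y).ne' 2 (by norm_num)
  have hxz : π (y ^ m) = z := by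
    obtain ⟨r, rfl⟩ : Odd m := Nat.odd_iff.mpr (by omega)
    rw [map_pow, hy, pow_succ, pow_mul, pow_two, hz2, one_pow, one_mul]
  have hxL : y ^ m ∈ L := by
    rw [hL, mem_comap, hxz]
    exact mem_zpowers z
  haveI : Fact (Nat.Prime 2) := ⟨Nat.prime_two⟩
  obtain ⟨T, hT⟩ := (IsPGroup.of_card (n := i) (by
    rw [Nat.card_zpowers, Subgroup.orderOf_mk, orderOf_pow' _ (by omega), hym,
      Nat.gcd_mul_left_left, Nat.mul_div_cancel _ (by omega)]) :
    IsPGroup 2 (zpowers (⟨y ^ m, hxL⟩ : L))).exists_le_sylow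
  set T' : Subgroup H := (T : Subgroup L).map L.subtype with hT'
  set C : Subgroup H := Subgroup.normalizer (T' : Set H) with hC
  have hxT : y ^ m ∈ T' := ⟨⟨y ^ m, hxL⟩, hT (mem_zpowers _), rfl⟩
  have hT2 : IsPGroup 2 T' := T.isPGroup'.map _
  have hCsurj : ∀ M, ∃ c ∈ C, π c = M := fun M => by
    obtain ⟨h, rfl⟩ := hπsurj M
    have hmem : h ∈ C ⊔ L := by
      rw [hC, hT', Sylow.normalizer_sup_eq_top T]
      exact mem_top h
    rw [mem_sup_of_normal_right] at hmem
    obtain ⟨c, hc, l, hl, rfl⟩ := hmem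
    obtain ⟨j, hj⟩ := mem_zpowers_iff.mp (mem_comap.mp hl)
    refine ⟨c * (y ^ m) ^ j, mul_mem hc (zpow_mem (le_normalizer hxT) j), ?_⟩
    rw [map_mul, map_mul, map_zpow, hxz, hj]
  have hCU : ∀ v, T₀ v ∈ C → v = 0 := fun v hv => by
    have hx' : (y ^ m) * T₀ v * (y ^ m)⁻¹ = T₀ (-v) := Subtype.ext (by
      show ((y ^ m : H) : G) * t v * ((y ^ m : H) : G)⁻¹ = t (-v)
      rw [hπ, hxz]
      show t ((-1 : Matrix (Fin 2) (Fin 2) (ZMod p)) *ᵥ v) = t (-v)
      rw [Matrix.neg_mulVec, Matrix.one_mulVec])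
    have hcm : T₀ v * (y ^ m) * (T₀ v)⁻¹ * (y ^ m)⁻¹ ∈ T' :=
      mul_mem ((mem_normalizer_iff.mp hv _).mp hxT) (inv_mem hxT)
    have he : T₀ v * (y ^ m) * (T₀ v)⁻¹ * (y ^ m)⁻¹ = T₀ (v + v) := by
      rw [show T₀ v * (y ^ m) * (T₀ v)⁻¹ * (y ^ m)⁻¹ =
        T₀ v * ((y ^ m) * T₀ v * (y ^ m)⁻¹)⁻¹ by group, hx']
      apply Subtype.ext
      show t v * (t (-v))⁻¹ = t (v + v)
      rw [htneg, inv_inv, hadd]
    rw [he] at hcm
    obtain ⟨k, hk⟩ := hT2 ⟨_, hcm⟩
    have hk' : t (v + v) ^ 2 ^ k = 1 := congrArg (fun u : T' => ((u : H) : G)) hk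
    have hnsmul : ∀ (n : ℕ) w, t w ^ n = t (n • w) := fun n w => by
      induction n with
      | zero => rw [pow_zero, zero_smul, ht0]
      | succ n ih => rw [pow_succ, ih, succ_nsmul, hadd]
    rw [hnsmul, ← ht0] at hk'
    have h2 : (2 : ZMod p) ≠ 0 := fun h => hp ((Nat.prime_dvd_prime_iff_eq Fact.out
      Nat.prime_two).mp ((ZMod.natCast_eq_zero_iff 2 p).mp (by exact_mod_cast h)))
    funext l
    have h := congrFun (hinj hk') l
    rw [Pi.smul_apply, Pi.add_apply, nsmul_eq_mul, Nat.cast_pow, ← two_mul, Nat.cast_ofNat,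
      Pi.zero_apply] at h
    simpa [h2] using h
  exact involves_of_hom H (MonoidHom.id H) Function.surjective_id
    (involves_qd_of_split π T₀ (fun v w => Subtype.ext (hadd v w)) hT₀π
      (fun h v => Subtype.ext (hπ h v)) C hCsurj hCU)

/-- Two quadratic elements on an elementary abelian group, generating modulo its centralizer a
group that is not a `p`-group, give a section `Qd(p)`. -/
theorem involves_qd_of_quadratic_pair [Finite G] (hp : p ≠ 2) {V : Subgroup G}
    (hV : Cfsg.IsElementaryAbelian p V) {a b : G} (ha : a ∈ normalizer (V : Set G))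
    (hb : b ∈ normalizer (V : Set G))
    (hqa : ⁅⁅V, Subgroup.zpowers a⁆, Subgroup.zpowers a⁆ = ⊥)
    (hqb : ⁅⁅V, Subgroup.zpowers b⁆, Subgroup.zpowers b⁆ = ⊥)
    (hnp : ∃ g ∈ Subgroup.closure ({a, b} : Set G), ∀ k : ℕ, g ^ p ^ k ∉ centralizer (V : Set G)) :
    Cfsg.Involves ↥(Cfsg.qd p) G := by
  haveI := hV.1
  set X := Subgroup.closure ({a, b} : Set G) with hX
  have hXN : X ≤ normalizer (V : Set G) := (closure_le _).mpr (by
    rintro x (rfl | rfl) <;> assumption)
  let a' : X := ⟨a, subset_closure (Or.inl rfl)⟩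
  let b' : X := ⟨b, subset_closure (Or.inr rfl)⟩
  have hgen : Subgroup.closure ({a', b'} : Set X) = ⊤ := by
    apply Subgroup.map_injective X.subtype_injective
    rw [MonoidHom.map_closure, ← MonoidHom.range_eq_map, range_subtype]
    simp [hX, a', b', Set.image_insert_eq, Set.image_singleton]
  let ρ : X →* AddMonoid.End (Additive V) := (PLocal.normEnd V).comp (inclusion hXN)
  have hexp : ∀ v : Additive V, p • v = 0 := fun v =>
    Additive.toMul.injective (show v.toMul ^ p = 1 from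
      Subtype.ext (by simpa using hV.2 _ v.toMul.2))
  -- coordinates
  obtain ⟨n, ⟨e⟩⟩ : ∃ n, Nonempty (Additive V ≃+ (Fin n → ZMod p)) := by
    letI inst : Module (ZMod p) (Additive V) := AddCommGroup.zmodModule hexp
    have hf : @Module.Finite (ZMod p) (Additive V) _ _ inst :=
      @Module.Finite.of_finite _ _ _ _ inst _
    exact ⟨_, ⟨(@Module.finBasis (ZMod p) (Additive V) _ _ inst
      (@Module.Free.of_divisionRing (ZMod p) (Additive V) _ _ inst) _ hf).equivFun.toAddEquiv⟩⟩
  let T : AddMonoid.End (Additive V) → Matrix (Fin n) (Fin n) (ZMod p) := fun f =>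
    LinearMap.toMatrix' (AddMonoidHom.toZModLinearMap p
      ((e.toAddMonoidHom.comp f).comp e.symm.toAddMonoidHom))
  have hT : ∀ f w, T f *ᵥ e w = e (f w) := fun f w => by
    show LinearMap.toMatrix' _ *ᵥ e w = _
    rw [LinearMap.toMatrix'_mulVec]
    show e (f (e.symm (e w))) = e (f w)
    rw [e.symm_apply_apply]
  have hText : ∀ A B : Matrix (Fin n) (Fin n) (ZMod p), (∀ w, A *ᵥ e w = B *ᵥ e w) → A = B :=
    fun A B h => Matrix.toLin'.injective (LinearMap.ext fun v => by
      rw [Matrix.toLin'_apply, Matrix.toLin'_apply, ← e.apply_symm_apply v]; exact h _)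
  let m : X →* Matrix (Fin n) (Fin n) (ZMod p) :=
    { toFun := fun g => T (ρ g)
      map_one' := hText _ _ fun w => by rw [hT, map_one, Matrix.one_mulVec]; rfl
      map_mul' := fun g h => hText _ _ fun w => by
        rw [hT, ← Matrix.mulVec_mulVec, hT, hT, map_mul]; rfl }
  have hm : ∀ g w, m g *ᵥ e w = e (ρ g w) := fun g w => hT _ _
  have hquad : ∀ g : X, (ρ g - 1) * (ρ g - 1) = 0 → (m g - 1) * (m g - 1) = 0 := fun g hg => by
    refine hText _ _ fun w => ?_
    have hd : ∀ u, (m g - 1) *ᵥ e u = e ((ρ g - 1) u) := fun u => by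
      rw [Matrix.sub_mulVec, Matrix.one_mulVec, hm, ← map_sub]; rfl
    rw [← Matrix.mulVec_mulVec, hd, hd, Matrix.zero_mulVec]
    have h' := DFunLike.congr_fun hg w
    exact (congrArg e h').trans (map_zero e)
  obtain ⟨j, hj, hjM⟩ := exists_natural_sub hp m hgen
    (hquad a' (PLocal.normEnd_sub_one_sq V (g := ⟨a, ha⟩) hqa))
    (hquad b' (PLocal.normEnd_sub_one_sq V (g := ⟨b, hb⟩) hqb)) (by
      obtain ⟨g, hg, hgk⟩ := hnp
      refine ⟨⟨g, hg⟩, fun k h => hgk k ?_⟩
      have h1 : ρ (⟨g, hg⟩ ^ p ^ k) = 1 := AddMonoidHom.ext fun w => e.injective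
        ((hm _ w).symm.trans (by rw [h, Matrix.one_mulVec]; rfl))
      simpa [ρ] using (PLocal.normEnd_eq_one_iff V).mp h1)
  refine involves_qd_of_natural hp (fun v => ((e.symm (j v)).toMul : G)) ?_ ?_ ?_
  · intro v w
    rw [map_add, map_add, toMul_add, Subgroup.coe_mul]
  · intro v w h
    exact hj (e.symm.injective (Additive.toMul.injective (Subtype.ext h)))
  · intro M
    obtain ⟨g, hg⟩ := hjM M
    refine ⟨(g : G), fun v => ?_⟩
    have h := hg v
    rw [← e.apply_symm_apply (j v), hm] at h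
    have h2 := congrArg e.symm h
    rw [e.symm_apply_apply] at h2
    rw [← h2]
    rfl

/-- The version for a normal `p`-subgroup: pass to the quotient by its Frattini subgroup. -/
theorem involves_qd_of_quadratic_pair_normal [Finite G] (hp : p ≠ 2) {P : Subgroup G} [P.Normal]
    (hP : IsPGroup p P) {a b : G} (hqa : ⁅⁅P, Subgroup.zpowers a⁆, Subgroup.zpowers a⁆ = ⊥)
    (hqb : ⁅⁅P, Subgroup.zpowers b⁆, Subgroup.zpowers b⁆ = ⊥)
    (hnp : ∃ g ∈ Subgroup.closure ({a, b} : Set G), ∀ k : ℕ, g ^ p ^ k ∉ centralizer (P : Set G)) :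
    Cfsg.Involves ↥(Cfsg.qd p) G := by
  set N := (frattini ↥P).map P.subtype with hN
  haveI : N.Normal := PLocal.normal_map_subtype P (frattini ↥P)
  set π := QuotientGroup.mk' N with hπ
  haveI : (P.map π).Normal := Subgroup.Normal.map inferInstance _ (QuotientGroup.mk'_surjective _)
  have hq : ∀ c, ⁅⁅P, Subgroup.zpowers c⁆, Subgroup.zpowers c⁆ = ⊥ →
      ⁅⁅P.map π, Subgroup.zpowers (π c)⁆, Subgroup.zpowers (π c)⁆ = ⊥ := fun c hc => by
    rw [← MonoidHom.map_zpowers, ← map_commutator, ← map_commutator, hc, Subgroup.map_bot]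
  obtain ⟨g, hg, hgk⟩ := hnp
  have key := involves_qd_of_quadratic_pair hp (PLocal.isElementaryAbelian_map_frattini hP)
    (le_top.trans (normalizer_eq_top (P.map π)).ge (mem_top (π a)))
    (le_top.trans (normalizer_eq_top (P.map π)).ge (mem_top (π b))) (hq a hqa) (hq b hqb)
    ⟨π g, by rw [← Set.image_pair, ← MonoidHom.map_closure]; exact mem_map_of_mem π hg, fun k hk => by
      obtain ⟨i, m, hm, him⟩ := Nat.exists_eq_pow_mul_and_not_dvd (orderOf_pos g).ne' p
        (Fact.out : p.Prime).ne_one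
      refine hgk (k + i) ?_
      set u := g ^ p ^ (k + i) with hu
      have hco : (orderOf u).Coprime p := by
        refine ((Fact.out : p.Prime).coprime_iff_not_dvd.mpr hm).symm.coprime_dvd_left
          (orderOf_dvd_of_pow_eq_one ?_)
        rw [hu, ← pow_mul, pow_add, mul_assoc, mul_comm (p ^ k), pow_mul, ← him,
          pow_orderOf_eq_one, one_pow]
      refine CfsgLib.Coprime.le_centralizer_of_commutator_le_frattini
        (A := Subgroup.zpowers u) (le_top.trans (normalizer_eq_top P).ge) ?_ ?_ (mem_zpowers _)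
      · obtain ⟨r, hr⟩ := IsPGroup.iff_card.mp (hP.to_subgroup (frattini ↥P))
        rw [Nat.card_zpowers, hr]
        exact hco.pow_right r
      · rw [← hN, ← QuotientGroup.ker_mk' N, ← Subgroup.map_eq_bot_iff, map_commutator,
          commutator_eq_bot_iff_le_centralizer, le_centralizer_iff, MonoidHom.map_zpowers,
          zpowers_le, hu, map_pow, pow_add, pow_mul]
        exact pow_mem hk _⟩
  obtain ⟨K, f, hf⟩ := QdFree.exists_surjective_of_involves_quotient N key
  exact involves_of_surjective K f hf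

/-- A `Qd(p)`-free group is `p`-stable in the normalizer form. -/
theorem isNormalizerPStable_of_qdFree [Finite G] (hp : p ≠ 2)
    (hfree : ¬ Cfsg.Involves ↥(Cfsg.qd p) G) : Cfsg.IsNormalizerPStable p G := by
  intro P hP a haN hqa
  set N := Subgroup.normalizer (P : Set G) with hN
  set C := (centralizer (P : Set G)).subgroupOf N with hC
  haveI hCn : C.Normal := normal_subgroupOf_centralizer_normalizer (P : Set G)
  haveI hPn : (P.subgroupOf N).Normal := normal_in_normalizer
  set π := QuotientGroup.mk' C with hπ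
  obtain ⟨D, hDn, hDp, haD⟩ := CfsgLib.Small.baerSuzuki_elem (p := p) (π ⟨a, haN⟩) (by
    intro q
    obtain ⟨g, rfl⟩ := QuotientGroup.mk'_surjective C q
    by_contra hnot
    apply hfree
    have hq : ⁅⁅P.subgroupOf N, Subgroup.zpowers (⟨a, haN⟩ : N)⁆,
        Subgroup.zpowers (⟨a, haN⟩ : N)⁆ = ⊥ := by
      apply Subgroup.map_injective N.subtype_injective
      rw [map_commutator, map_commutator, MonoidHom.map_zpowers, Subgroup.map_bot,
        map_subgroupOf_eq_of_le le_normalizer]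
      exact hqa
    refine involves_of_hom N (MonoidHom.id N) Function.surjective_id
      (involves_qd_of_quadratic_pair_normal hp (P := P.subgroupOf N)
        (hP.comap_subtype) (a := ⟨a, haN⟩) (b := g * ⟨a, haN⟩ * g⁻¹) hq ?_ ?_)
    · have h1 := congrArg (Subgroup.map (MulAut.conj g).toMonoidHom) hq
      rw [map_commutator, map_commutator, MonoidHom.map_zpowers, Subgroup.map_bot,
        show (P.subgroupOf N).map (MulAut.conj g).toMonoidHom = P.subgroupOf N from
          mem_normalizer_iff_map_conj_eq.mp (le_top.trans (normalizer_eq_top _).ge (mem_top g))]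
        at h1
      exact h1
    · by_contra hall
      push Not at hall
      apply hnot
      rw [← map_inv, ← map_mul, ← map_mul, ← Set.image_pair, ← MonoidHom.map_closure]
      rintro ⟨_, x, hx, rfl⟩
      obtain ⟨k, hk⟩ := hall _ hx
      refine ⟨k, Subtype.ext ?_⟩
      rw [SubmonoidClass.coe_pow, Subgroup.coe_one, ← map_pow]
      refine (QuotientGroup.eq_one_iff _).mpr (mem_subgroupOf.mpr (mem_centralizer_iff.mpr ?_))
      intro v hv
      exact congrArg Subtype.val (mem_centralizer_iff.mp hk ⟨v, le_normalizer hv⟩ hv))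
  exact PLocal.le_pCore (hN := hDn) hDp haD

/-- A group isomorphic to `Qd(p)` is not `p`-stable in the normalizer form. -/
theorem not_isNormalizerPStable_of_mulEquiv_qd {X : Type*} [Group X]
    (e : X ≃* ↥(Cfsg.qd p)) : ¬ Cfsg.IsNormalizerPStable p X := by
  intro h
  let e' : X →* ↥(Cfsg.qdOver (ZMod p)) := e.toMonoidHom
  have he' : Function.Bijective e' := e.bijective
  set P : Subgroup X := (QdOver.transl (ZMod p)).comap e' with hP
  set u : X := e.symm (QdOver.emb (CfsgLib.Linear.upperUni (1 : ZMod p))) with hu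
  have hu' : e' u = QdOver.emb (CfsgLib.Linear.upperUni (1 : ZMod p)) := e.apply_symm_apply _
  haveI : P.Normal := Subgroup.Normal.comap inferInstance _
  have hPp : IsPGroup p P :=
    (QdOver.isPGroup_transl (F := ZMod p)).comap_of_injective e' he'.1
  have hPmap : P.map e' = QdOver.transl (ZMod p) := map_comap_eq_self_of_surjective he'.2 _
  have hq : ⁅⁅P, Subgroup.zpowers u⁆, Subgroup.zpowers u⁆ = ⊥ := by
    apply Subgroup.map_injective he'.1
    rw [map_commutator, map_commutator, MonoidHom.map_zpowers, Subgroup.map_bot, hPmap, hu',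
      PLocal.quadratic_iff (le_top.trans (normalizer_eq_top _).ge (mem_top _))]
    intro v hv
    obtain ⟨x, y, rfl⟩ := QdOver.exists_eq_tr hv
    have hc := QdOver.mk_conj_tr (CfsgLib.Linear.upperUni (1 : ZMod p)) x y
    simp only [CfsgLib.Linear.upperUni_val, of_apply, cons_val_zero, cons_val_one, cons_val',
      cons_val_fin_one, empty_val', one_mul, zero_mul, zero_add] at hc
    set g := QdOver.emb (CfsgLib.Linear.upperUni (1 : ZMod p))
    have hce : ⁅QdOver.tr x y, g⁆ = QdOver.tr (-y) 0 := by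
      rw [commutatorElement_def,
        show QdOver.tr x y * g * (QdOver.tr x y)⁻¹ * g⁻¹ =
          QdOver.tr x y * (g * QdOver.tr x y * g⁻¹)⁻¹ by group, hc, mul_inv_eq_iff_eq_mul,
        QdOver.tr_mul]
      congr 1 <;> ring
    rw [hce]
    have hcc := QdOver.mk_conj_tr (CfsgLib.Linear.upperUni (1 : ZMod p)) (-y) 0
    simp only [CfsgLib.Linear.upperUni_val, of_apply, cons_val_zero, cons_val_one, cons_val',
      cons_val_fin_one, empty_val', one_mul, zero_mul, zero_add, mul_zero, add_zero] at hcc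
    exact (mul_inv_eq_iff_eq_mul.mp hcc).symm
  have hmem := h P hPp u (le_top.trans (normalizer_eq_top P).ge (mem_top u)) hq
  set N := Subgroup.normalizer (P : Set X) with hN
  set C := (centralizer (P : Set X)).subgroupOf N with hC
  haveI hCn : C.Normal := normal_subgroupOf_centralizer_normalizer (P : Set X)
  let β : N →* SL(2, ZMod p) := (QdOver.block.comp e').comp N.subtype
  have hβs : Function.Surjective β := fun M => by
    obtain ⟨x, hx⟩ := he'.2 (QdOver.emb M)
    refine ⟨⟨x, le_top.trans (normalizer_eq_top P).ge (mem_top x)⟩, ?_⟩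
    show QdOver.block (e' x) = M
    rw [hx, QdOver.block_emb]
  have hβC : C ≤ β.ker := fun c hc => by
    show QdOver.block (e' (c : X)) = 1
    obtain ⟨a, b, c', d, x, y, hdet, hcx⟩ := QdOver.exists_eq_mk (e' (c : X))
    have key : ∀ x' y' : ZMod p, a * x' + b * y' = x' ∧ c' * x' + d * y' = y' := fun x' y' => by
      obtain ⟨v, hv⟩ := he'.2 (QdOver.tr x' y')
      have hvP : v ∈ P := by rw [hP, mem_comap, hv]; exact QdOver.tr_mem x' y'
      have hc' := congrArg e' (mem_centralizer_iff.mp (mem_subgroupOf.mp hc) v hvP)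
      rw [map_mul, map_mul, hv, hcx, QdOver.tr, QdOver.mk_mul, QdOver.mk_mul] at hc'
      obtain ⟨-, -, -, -, h1, h2⟩ := QdOver.mk_inj hc'
      exact ⟨by linear_combination -h1, by linear_combination -h2⟩
    obtain ⟨ha, hc1⟩ := key 1 0
    obtain ⟨hb, hd⟩ := key 0 1
    simp only [mul_one, mul_zero, add_zero, zero_add] at ha hc1 hb hd
    rw [hcx, QdOver.block_mk]
    apply Subtype.ext
    rw [QdOver.sl2_val, ha, hb, hc1, hd]
    exact Matrix.one_fin_two.symm
  let γ := QuotientGroup.lift C β hβC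
  have hγs : Function.Surjective γ := fun M => by
    obtain ⟨n, hn⟩ := hβs M
    exact ⟨QuotientGroup.mk n, hn⟩
  haveI : ((Cfsg.pCore p (N ⧸ C)).map γ).Normal := Subgroup.Normal.map inferInstance _ hγs
  haveI : Finite X := Finite.of_equiv _ e.toEquiv.symm
  have hbot := QdOver.sl2_normal_pGroup_eq_bot (p := p) ((Cfsg.pCore p (N ⧸ C)).map γ)
    ((PLocal.isPGroup_pCore p _).map γ)
  have h1 : QdOver.block (e' u) = 1 := by
    have h2 := mem_map_of_mem γ hmem
    rw [hbot, Subgroup.mem_bot] at h2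
    exact h2
  rw [hu', QdOver.block_emb] at h1
  have h3 := congrArg (fun M : SL(2, ZMod p) => M.1 0 1) h1
  simp [CfsgLib.Linear.upperUni_val] at h3

end CfsgLib.LocalEven
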