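import Cfsg.Prelude.Def_Amalgam

/-!
# The coset graph of a pair of subgroups: elementary facts
-/

set_option autoImplicit false

namespace CfsgLib.LocalEven

open Cfsg

variable {X : Type*} [Group X] {M₁ M₂ : Subgroup X}

lemma adj_iff {a b : CosetVertex M₁ M₂} :
    (cosetGraph M₁ M₂).Adj a b ↔
      ∃ x : X, (a = Sum.inl (x : X ⧸ M₁) ∧ b = Sum.inr (x : X ⧸ M₂)) ∨
        (a = Sum.inr (x : X ⧸ M₂) ∧ b = Sum.inl (x : X ⧸ M₁)) := by
  simp only [cosetGraph, SimpleGraph.fromRel_adj]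
  constructor
  · rintro ⟨-, ⟨x, h, h'⟩ | ⟨x, h, h'⟩⟩
    · exact ⟨x, Or.inl ⟨h, h'⟩⟩
    · exact ⟨x, Or.inr ⟨h', h⟩⟩
  · rintro ⟨x, ⟨rfl, rfl⟩ | ⟨rfl, rfl⟩⟩
    · exact ⟨by simp, Or.inl ⟨x, rfl, rfl⟩⟩
    · exact ⟨by simp, Or.inr ⟨x, rfl, rfl⟩⟩

lemma adj_inl_inr (x : X) :
    (cosetGraph M₁ M₂).Adj (Sum.inl (x : X ⧸ M₁)) (Sum.inr (x : X ⧸ M₂)) :=
  adj_iff.mpr ⟨x, Or.inl ⟨rfl, rfl⟩⟩

lemma smul_inl_coe (g x : X) :
    g • (Sum.inl (x : X ⧸ M₁) : CosetVertex M₁ M₂) = Sum.inl ((g * x : X) : X ⧸ M₁) := rfl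

lemma smul_inr_coe (g x : X) :
    g • (Sum.inr (x : X ⧸ M₂) : CosetVertex M₁ M₂) = Sum.inr ((g * x : X) : X ⧸ M₂) := rfl

lemma adj_smul (g : X) {a b : CosetVertex M₁ M₂} (h : (cosetGraph M₁ M₂).Adj a b) :
    (cosetGraph M₁ M₂).Adj (g • a) (g • b) := by
  obtain ⟨x, ⟨rfl, rfl⟩ | ⟨rfl, rfl⟩⟩ := adj_iff.mp h
  · exact adj_inl_inr (g * x)
  · exact (adj_inl_inr (g * x)).symm

lemma adj_smul_iff (g : X) {a b : CosetVertex M₁ M₂} :
    (cosetGraph M₁ M₂).Adj (g • a) (g • b) ↔ (cosetGraph M₁ M₂).Adj a b := by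
  refine ⟨fun h => ?_, adj_smul g⟩
  simpa using adj_smul g⁻¹ h

/-- Left multiplication by a group element, as an endomorphism of the coset graph. -/
def smulHom (M₁ M₂ : Subgroup X) (g : X) : cosetGraph M₁ M₂ →g cosetGraph M₁ M₂ where
  toFun v := g • v
  map_rel' h := adj_smul g h

lemma reachable_smul (g : X) {a b : CosetVertex M₁ M₂} (h : (cosetGraph M₁ M₂).Reachable a b) :
    (cosetGraph M₁ M₂).Reachable (g • a) (g • b) :=
  h.map (smulHom M₁ M₂ g)

/-- The coset graph of two generating subgroups is connected. -/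
theorem cosetGraph_connected (hgen : M₁ ⊔ M₂ = ⊤) : (cosetGraph M₁ M₂).Connected := by
  have key : ∀ g : X, (cosetGraph M₁ M₂).Reachable (Sum.inl ((1 : X) : X ⧸ M₁))
      (g • Sum.inl ((1 : X) : X ⧸ M₁)) := by
    intro g
    have hg : g ∈ Subgroup.closure ((M₁ : Set X) ∪ M₂) := by
      rw [Subgroup.closure_union, Subgroup.closure_eq, Subgroup.closure_eq, hgen]
      exact Subgroup.mem_top g
    induction hg using Subgroup.closure_induction with
    | mem y hy =>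
      rcases hy with hy | hy
      · have : y • (Sum.inl ((1 : X) : X ⧸ M₁) : CosetVertex M₁ M₂) = Sum.inl ((1 : X) : X ⧸ M₁) := by
          rw [smul_inl_coe, mul_one]
          exact congrArg Sum.inl (QuotientGroup.eq.mpr (by simpa using hy))
        rw [this]
      · have h₂ : (Sum.inr ((1 : X) : X ⧸ M₂) : CosetVertex M₁ M₂) = Sum.inr (y : X ⧸ M₂) :=
          congrArg Sum.inr (QuotientGroup.eq.mpr (by simpa using hy))
        rw [smul_inl_coe, mul_one]
        exact ((adj_inl_inr 1).reachable.trans (h₂ ▸ (SimpleGraph.Reachable.refl _))).trans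
          (adj_inl_inr y).symm.reachable
    | one => rw [one_smul]
    | mul a b _ _ ha hb =>
      rw [mul_smul]
      exact ha.trans (reachable_smul a hb)
    | inv a _ ha =>
      have := reachable_smul a⁻¹ ha
      rw [inv_smul_smul] at this
      exact this.symm
  haveI : Nonempty (CosetVertex M₁ M₂) := ⟨Sum.inl ((1 : X) : X ⧸ M₁)⟩
  refine SimpleGraph.Connected.mk fun a b => ?_
  have h0 : ∀ v : CosetVertex M₁ M₂,
      (cosetGraph M₁ M₂).Reachable (Sum.inl ((1 : X) : X ⧸ M₁)) v := by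
    rintro (v | v) <;> induction v using QuotientGroup.induction_on with | _ x => ?_
    · simpa [smul_inl_coe] using key x
    · exact (by simpa [smul_inl_coe] using key x :
        (cosetGraph M₁ M₂).Reachable _ (Sum.inl (x : X ⧸ M₁))).trans (adj_inl_inr x).reachable
  exact (h0 a).symm.trans (h0 b)

lemma stabilizer_inl (x : X) :
    MulAction.stabilizer X (Sum.inl (x : X ⧸ M₁) : CosetVertex M₁ M₂) =
      M₁.map (MulAut.conj x).toMonoidHom := by
  ext g
  simp only [MulAction.mem_stabilizer_iff, smul_inl_coe, Sum.inl.injEq, QuotientGroup.eq,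
    Subgroup.mem_map, MulEquiv.coe_toMonoidHom, MulAut.conj_apply]
  constructor
  · intro h
    refine ⟨x⁻¹ * g * x, ?_, by group⟩
    have := M₁.inv_mem h
    convert this using 1
    group
  · rintro ⟨m, hm, rfl⟩
    convert M₁.inv_mem hm using 1
    group

lemma stabilizer_inr (x : X) :
    MulAction.stabilizer X (Sum.inr (x : X ⧸ M₂) : CosetVertex M₁ M₂) =
      M₂.map (MulAut.conj x).toMonoidHom := by
  ext g
  simp only [MulAction.mem_stabilizer_iff, smul_inr_coe, Sum.inr.injEq, QuotientGroup.eq,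
    Subgroup.mem_map, MulEquiv.coe_toMonoidHom, MulAut.conj_apply]
  constructor
  · intro h
    refine ⟨x⁻¹ * g * x, ?_, by group⟩
    have := M₂.inv_mem h
    convert this using 1
    group
  · rintro ⟨m, hm, rfl⟩
    convert M₂.inv_mem hm using 1
    group

lemma stabilizer_inl_one :
    MulAction.stabilizer X (Sum.inl ((1 : X) : X ⧸ M₁) : CosetVertex M₁ M₂) = M₁ := by
  rw [stabilizer_inl]; ext g; simp

lemma stabilizer_inr_one :
    MulAction.stabilizer X (Sum.inr ((1 : X) : X ⧸ M₂) : CosetVertex M₁ M₂) = M₂ := by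
  rw [stabilizer_inr]; ext g; simp

lemma edgeStabilizer_inl_inr (x : X) :
    edgeStabilizer (Sum.inl (x : X ⧸ M₁) : CosetVertex M₁ M₂) (Sum.inr (x : X ⧸ M₂)) =
      (M₁ ⊓ M₂).map (MulAut.conj x).toMonoidHom := by
  rw [edgeStabilizer, stabilizer_inl, stabilizer_inr,
    Subgroup.map_inf _ _ _ (MulAut.conj x).injective]

/-- An element fixing every vertex of the coset graph of a faithful pair is trivial. -/
theorem eq_bot_of_le_all_stabilizers (h : ∀ N : Subgroup X, N ≤ M₁ ⊓ M₂ → N.Normal → N = ⊥)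
    {T : Subgroup X} (hT : ∀ v : CosetVertex M₁ M₂, T ≤ MulAction.stabilizer X v) : T = ⊥ := by
  have hK : (MulAction.toPermHom X (CosetVertex M₁ M₂)).ker = ⊥ := by
    refine h _ (fun g hg => ?_) inferInstance
    have hv : ∀ v : CosetVertex M₁ M₂, g • v = v := fun v =>
      Equiv.ext_iff.mp (MonoidHom.mem_ker.mp hg) v
    exact ⟨stabilizer_inl_one (M₁ := M₁) (M₂ := M₂) ▸ hv _,
      stabilizer_inr_one (M₁ := M₁) (M₂ := M₂) ▸ hv _⟩
  rw [eq_bot_iff, ← hK]
  intro t ht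
  exact MonoidHom.mem_ker.mpr (Equiv.ext fun v => hT v ht)

/-- A vertex stabilizer is transitive on the neighbours of its vertex. -/
theorem exists_smul_neighbour {δ μ μ' : CosetVertex M₁ M₂} (hμ : (cosetGraph M₁ M₂).Adj δ μ)
    (hμ' : (cosetGraph M₁ M₂).Adj δ μ') : ∃ g ∈ MulAction.stabilizer X δ, g • μ = μ' := by
  obtain ⟨x, ⟨rfl, rfl⟩ | ⟨rfl, rfl⟩⟩ := adj_iff.mp hμ <;>
    obtain ⟨y, ⟨hy, rfl⟩ | ⟨hy, rfl⟩⟩ := adj_iff.mp hμ'
  · refine ⟨y * x⁻¹, ?_, by simp [smul_inr_coe]⟩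
    rw [MulAction.mem_stabilizer_iff, smul_inl_coe, hy]
    simp
  · cases hy
  · cases hy
  · refine ⟨y * x⁻¹, ?_, by simp [smul_inl_coe]⟩
    rw [MulAction.mem_stabilizer_iff, smul_inr_coe, hy]
    simp

/-- If `N(T)` is transitive on the neighbours of both ends of an edge fixed by `T`, then `T = 1`. -/
theorem eq_bot_of_normalizer_transitive (hgen : M₁ ⊔ M₂ = ⊤)
    (hfaith : ∀ N : Subgroup X, N ≤ M₁ ⊓ M₂ → N.Normal → N = ⊥)
    {δ μ : CosetVertex M₁ M₂} (hμ : (cosetGraph M₁ M₂).Adj δ μ) {T : Subgroup X}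
    (hT : T ≤ edgeStabilizer δ μ)
    (hδ : ∀ ν ν' : CosetVertex M₁ M₂, (cosetGraph M₁ M₂).Adj δ ν → (cosetGraph M₁ M₂).Adj δ ν' →
      ∃ g ∈ Subgroup.normalizer (T : Set X), g • δ = δ ∧ g • ν = ν')
    (hμt : ∀ ν ν' : CosetVertex M₁ M₂, (cosetGraph M₁ M₂).Adj μ ν → (cosetGraph M₁ M₂).Adj μ ν' →
      ∃ g ∈ Subgroup.normalizer (T : Set X), g • μ = μ ∧ g • ν = ν') : T = ⊥ := by
  refine eq_bot_of_le_all_stabilizers hfaith fun v => ?_
  suffices hv : ∃ h ∈ Subgroup.normalizer (T : Set X), h • δ = v ∨ h • μ = v by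
    obtain ⟨h, hh, hv⟩ := hv
    intro t ht
    have hc : h⁻¹ * t * h ∈ T := by
      simpa using (Subgroup.mem_normalizer_iff'.mp hh (h⁻¹ * t)).mpr (by simpa using ht)
    have e : t * h = h * (h⁻¹ * t * h) := by group
    rw [MulAction.mem_stabilizer_iff]
    rcases hv with rfl | rfl
    · rw [← mul_smul, e, mul_smul, (hT hc).1]
    · rw [← mul_smul, e, mul_smul, (hT hc).2]
  have hr : Relation.ReflTransGen (cosetGraph M₁ M₂).Adj δ v :=
    (SimpleGraph.reachable_iff_reflTransGen δ v).mp ((cosetGraph_connected hgen).preconnected δ v)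
  induction hr with
  | refl => exact ⟨1, one_mem _, Or.inl (one_smul _ _)⟩
  | @tail b c _ hbc ih =>
    obtain ⟨h, hh, hb | hb⟩ := ih
    · subst hb
      have hadj : (cosetGraph M₁ M₂).Adj δ (h⁻¹ • c) := by
        simpa using adj_smul h⁻¹ hbc
      obtain ⟨g, hg, -, hgc⟩ := hδ μ (h⁻¹ • c) hμ hadj
      exact ⟨h * g, mul_mem hh hg, Or.inr (by rw [mul_smul, hgc, smul_inv_smul])⟩
    · subst hb
      have hadj : (cosetGraph M₁ M₂).Adj μ (h⁻¹ • c) := by
        simpa using adj_smul h⁻¹ hbc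
      obtain ⟨g, hg, -, hgc⟩ := hμt δ (h⁻¹ • c) hμ.symm hadj
      exact ⟨h * g, mul_mem hh hg, Or.inl (by rw [mul_smul, hgc, smul_inv_smul])⟩

/-- Membership in the kernel of a vertex stabilizer on the neighbours. -/
lemma mem_neighbourKernel {δ : CosetVertex M₁ M₂} {g : X} :
    g ∈ neighbourKernel δ ↔
      g • δ = δ ∧ ∀ μ, (cosetGraph M₁ M₂).Adj δ μ → g • μ = μ := by
  simp [neighbourKernel, Subgroup.mem_inf, Subgroup.mem_iInf]

lemma neighbourKernel_le_stabilizer_of_adj {δ μ : CosetVertex M₁ M₂}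
    (h : (cosetGraph M₁ M₂).Adj δ μ) : neighbourKernel δ ≤ MulAction.stabilizer X μ :=
  fun _ hg => (mem_neighbourKernel.mp hg).2 μ h

end CfsgLib.LocalEven
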