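import Cfsg.Prelude.Def_Amalgam
import Cfsg.Agent.LocalEven.CosetGraph

/-!
# Amalgam pairs of characteristic `p`: vertex groups, edge groups, `Q_δ` and `Z_δ`
-/

set_option autoImplicit false

namespace CfsgLib.LocalEven

open Cfsg

section Finite

variable {X : Type*} [Group X] {p : ℕ} [hp : Fact p.Prime]

/-- A normal `p`-subgroup of a finite group lies in every Sylow `p`-subgroup. -/
lemma normal_pSubgroup_le_sylow {G : Type*} [Group G] {N : Subgroup G} [N.Normal]
    (hN : IsPGroup p N) (P : Sylow p G) : N ≤ (P : Subgroup G) := by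
  have := P.is_maximal' (IsPGroup.to_sup_of_normal_left hN P.2) le_sup_right
  exact this ▸ le_sup_left

lemma pCore_le_sylow {G : Type*} [Group G] (P : Sylow p G) : pCore p G ≤ (P : Subgroup G) :=
  sSup_le fun _ ⟨hN, hp'⟩ => haveI := hN; normal_pSubgroup_le_sylow hp' P

lemma pCoreOf_le (H : Subgroup X) : pCoreOf p H ≤ H := Subgroup.map_subtype_le _

/-- `H ∩ C(O_p(H)) ≤ O_p(H)`, inside the ambient group. -/
lemma inf_centralizer_pCoreOf_le {H : Subgroup X}
    (h : Subgroup.centralizer (pCore p H : Set H) ≤ pCore p H) :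
    H ⊓ Subgroup.centralizer (pCoreOf p H : Set X) ≤ pCoreOf p H := by
  rintro g ⟨hg, hc⟩
  refine ⟨⟨g, hg⟩, h (Subgroup.mem_centralizer_iff.mpr fun q hq => Subtype.ext ?_), rfl⟩
  exact Subgroup.mem_centralizer_iff.mp hc q ⟨q, hq, rfl⟩

lemma map_pCore_le {G G' : Type*} [Group G] [Group G'] (e : G ≃* G') :
    (pCore p G).map e.toMonoidHom ≤ pCore p G' := by
  rw [Subgroup.map_le_iff_le_comap]
  refine sSup_le fun N ⟨hN, hpN⟩ => ?_
  rw [← Subgroup.map_le_iff_le_comap]
  exact le_sSup ⟨hN.map _ e.surjective, hpN.map _⟩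

/-- Transport of `O_p` and of the characteristic `p` property along an isomorphism. -/
lemma map_pCore_eq {G G' : Type*} [Group G] [Group G'] (e : G ≃* G') :
    (pCore p G).map e.toMonoidHom = pCore p G' := by
  refine le_antisymm (map_pCore_le e) fun y hy => ?_
  exact ⟨e.symm y, map_pCore_le e.symm ⟨y, hy, rfl⟩, e.apply_symm_apply y⟩

lemma centralizer_pCore_le_transport {G G' : Type*} [Group G] [Group G'] (e : G ≃* G')
    (h : Subgroup.centralizer (pCore p G : Set G) ≤ pCore p G) :
    Subgroup.centralizer (pCore p G' : Set G') ≤ pCore p G' := by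
  intro y hy
  rw [← map_pCore_eq e]
  refine ⟨e.symm y, h (Subgroup.mem_centralizer_iff.mpr fun q hq => ?_), e.apply_symm_apply y⟩
  have := Subgroup.mem_centralizer_iff.mp hy (e q) (map_pCore_le e ⟨q, hq, rfl⟩)
  simpa using congrArg e.symm this

/-- Two subgroups of Sylow order inside a finite subgroup `H` are conjugate by an element of `H`. -/
lemma exists_conj_of_card (H A B : Subgroup X) [Finite H] (hA : A ≤ H) (hB : B ≤ H)
    (hcA : Nat.card A = p ^ (Nat.card H).factorization p)
    (hcB : Nat.card B = p ^ (Nat.card H).factorization p) :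
    ∃ a ∈ H, A.map (MulAut.conj a).toMonoidHom = B := by
  let PA : Sylow p H := Sylow.ofCard (A.subgroupOf H)
    (by rw [Nat.card_congr (Subgroup.subgroupOfEquivOfLe hA).toEquiv, hcA])
  let PB : Sylow p H := Sylow.ofCard (B.subgroupOf H)
    (by rw [Nat.card_congr (Subgroup.subgroupOfEquivOfLe hB).toEquiv, hcB])
  obtain ⟨a, ha⟩ := MulAction.exists_smul_eq H PA PB
  have h1 : (A.subgroupOf H).map (MulAut.conj a).toMonoidHom = B.subgroupOf H := by
    have := congrArg Sylow.toSubgroup ha
    exact this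
  refine ⟨a, a.2, ?_⟩
  have h2 := congrArg (Subgroup.map H.subtype) h1
  rw [Subgroup.map_map, Subgroup.subgroupOf_map_subtype, inf_eq_left.mpr hB] at h2
  rw [← h2]
  have h3 : H.subtype.comp (MulAut.conj a).toMonoidHom =
      (MulAut.conj (a : X)).toMonoidHom.comp H.subtype := MonoidHom.ext fun _ => rfl
  rw [h3, ← Subgroup.map_map, Subgroup.subgroupOf_map_subtype, inf_eq_left.mpr hA]

lemma sylow_map_card (H : Subgroup X) [Finite H] (S : Sylow p H) :
    Nat.card ((S : Subgroup H).map H.subtype) = p ^ (Nat.card H).factorization p := by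
  rw [Subgroup.card_map_of_injective H.subtype_injective, Sylow.card_eq_multiplicity]

lemma pCoreOf_le_of_card (H T : Subgroup X) [Finite H] (hT : T ≤ H)
    (hc : Nat.card T = p ^ (Nat.card H).factorization p) : pCoreOf p H ≤ T := by
  rintro x ⟨y, hy, rfl⟩
  exact pCore_le_sylow (Sylow.ofCard (T.subgroupOf H)
    (by rw [Nat.card_congr (Subgroup.subgroupOfEquivOfLe hT).toEquiv, hc])) hy

/-- The centre of `T`, as a subgroup of the ambient group, is moved with `T`. -/
lemma map_conj_inf_centralizer (g : X) (T : Subgroup X) :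
    (T ⊓ Subgroup.centralizer (T : Set X)).map (MulAut.conj g).toMonoidHom =
      T.map (MulAut.conj g).toMonoidHom ⊓
        Subgroup.centralizer ((T.map (MulAut.conj g).toMonoidHom : Subgroup X) : Set X) := by
  ext y
  simp only [Subgroup.mem_map, Subgroup.mem_inf, Subgroup.mem_centralizer_iff, SetLike.mem_coe,
    MulEquiv.coe_toMonoidHom]
  constructor
  · rintro ⟨z, ⟨hz, hc⟩, rfl⟩
    refine ⟨⟨z, hz, rfl⟩, ?_⟩
    rintro _ ⟨t, ht, rfl⟩
    rw [← map_mul, ← map_mul, hc t ht]
  · rintro ⟨⟨z, hz, rfl⟩, hc⟩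
    refine ⟨z, ⟨hz, fun t ht => (MulAut.conj g).injective ?_⟩, rfl⟩
    rw [map_mul, map_mul]
    exact hc _ ⟨t, ht, rfl⟩

lemma map_omegaOne {Y : Type*} [Group Y] (f : X →* Y) (hf : Function.Injective f)
    (T : Subgroup X) : (omegaOne p T).map f = omegaOne p (T.map f) := by
  rw [omegaOne, omegaOne, MonoidHom.map_closure]
  congr 1
  ext y
  simp only [Set.mem_image, Set.mem_setOf_eq, Subgroup.mem_map]
  constructor
  · rintro ⟨x, ⟨hx, hxp⟩, rfl⟩
    exact ⟨⟨x, hx, rfl⟩, by rw [← map_pow, hxp, map_one]⟩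
  · rintro ⟨⟨x, hx, rfl⟩, h⟩
    exact ⟨x, ⟨hx, hf (by rw [map_pow, h, map_one])⟩, rfl⟩

lemma omegaOne_le (T : Subgroup X) : omegaOne p T ≤ T :=
  (Subgroup.closure_le _).mpr fun _ hx => hx.1

lemma omega_center_le_sylowCenterClosure (H T : Subgroup X) [Finite H] (hT : T ≤ H)
    (hc : Nat.card T = p ^ (Nat.card H).factorization p) :
    omegaOne p (T ⊓ Subgroup.centralizer (T : Set X)) ≤ sylowCenterClosure p H := by
  have h := le_iSup (fun S : Sylow p H => omegaOne p (((S : Subgroup H).map H.subtype) ⊓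
      Subgroup.centralizer (((S : Subgroup H).map H.subtype : Subgroup X) : Set X)))
    (Sylow.ofCard (T.subgroupOf H)
      (by rw [Nat.card_congr (Subgroup.subgroupOfEquivOfLe hT).toEquiv, hc]))
  have e : (T.subgroupOf H).map H.subtype = T := by
    rw [Subgroup.subgroupOf_map_subtype, inf_eq_left.mpr hT]
  simp only [Sylow.coe_ofCard, e] at h
  exact h

lemma map_conj_eq_self {H : Subgroup X} {g : X} (hg : g ∈ H) :
    H.map (MulAut.conj g).toMonoidHom = H := by
  ext y
  simp only [Subgroup.mem_map, MulEquiv.coe_toMonoidHom, MulAut.conj_apply]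
  constructor
  · rintro ⟨z, hz, rfl⟩
    exact mul_mem (mul_mem hg hz) (inv_mem hg)
  · exact fun hy => ⟨g⁻¹ * y * g, mul_mem (mul_mem (inv_mem hg) hy) hg, by group⟩

lemma conj_mem_sylowCenterClosure (H : Subgroup X) [Finite H] {g z : X} (hg : g ∈ H)
    (hz : z ∈ sylowCenterClosure p H) : g * z * g⁻¹ ∈ sylowCenterClosure p H := by
  suffices h : (sylowCenterClosure p H).map (MulAut.conj g).toMonoidHom ≤ sylowCenterClosure p H by
    exact h ⟨z, hz, rfl⟩
  have hg' : H.map (MulAut.conj g).toMonoidHom = H := map_conj_eq_self hg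
  rw [sylowCenterClosure, Subgroup.map_iSup]
  refine iSup_le fun S => ?_
  rw [map_omegaOne (MulAut.conj g).toMonoidHom (MulAut.conj g).injective,
    map_conj_inf_centralizer]
  refine omega_center_le_sylowCenterClosure H _ ?_ ?_
  · exact (Subgroup.map_mono (Subgroup.map_subtype_le _)).trans hg'.le
  · rw [Subgroup.card_map_of_injective (MulAut.conj g).injective, sylow_map_card]

lemma exists_pow_prime_order {x : X} (hx : x ≠ 1) (h : ∃ k : ℕ, orderOf x = p ^ k) :
    ∃ m : ℕ, x ^ m ≠ 1 ∧ (x ^ m) ^ p = 1 := by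
  obtain ⟨k, hk⟩ := h
  rcases k with _ | k
  · exact absurd (orderOf_eq_one_iff.mp (by simpa using hk)) hx
  · refine ⟨p ^ k, fun h0 => ?_, ?_⟩
    · have h1 := orderOf_dvd_of_pow_eq_one h0
      rw [hk, Nat.pow_dvd_pow_iff_le_right hp.out.one_lt] at h1
      omega
    · rw [← pow_mul, ← pow_succ, ← hk, pow_orderOf_eq_one]

lemma orderOf_eq_pow_of_mem {P : Subgroup X} (hP : IsPGroup p P) {x : X} (hx : x ∈ P) :
    ∃ k : ℕ, orderOf x = p ^ k := by
  obtain ⟨k, hk⟩ := hP ⟨x, hx⟩
  obtain ⟨j, -, hj⟩ := (Nat.dvd_prime_pow hp.out).mp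
    (orderOf_dvd_of_pow_eq_one (congrArg Subtype.val hk : x ^ p ^ k = 1))
  exact ⟨j, hj⟩

lemma le_pElementClosure_of_card {H T : Subgroup X} (hT : T ≤ H) {n : ℕ}
    (hc : Nat.card T = p ^ n) : T ≤ pElementClosure p H := fun t ht =>
  Subgroup.subset_closure ⟨hT ht, orderOf_eq_pow_of_mem (IsPGroup.of_card hc) ht⟩

lemma pElementClosure_le (H : Subgroup X) : pElementClosure p H ≤ H :=
  (Subgroup.closure_le _).mpr fun _ hx => hx.1

lemma le_normalizer_pElementClosure (H : Subgroup X) :
    H ≤ Subgroup.normalizer (pElementClosure p H : Set X) := by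
  intro g hg
  have key : ∀ g ∈ H, ∀ y ∈ pElementClosure p H, g * y * g⁻¹ ∈ pElementClosure p H := by
    intro g hg y hy
    suffices h : (pElementClosure p H).map (MulAut.conj g).toMonoidHom ≤ pElementClosure p H from
      h ⟨y, hy, rfl⟩
    rw [pElementClosure, MonoidHom.map_closure, Subgroup.closure_le]
    rintro _ ⟨x, ⟨hx, k, hk⟩, rfl⟩
    refine Subgroup.subset_closure ⟨mul_mem (mul_mem hg hx) (inv_mem hg), k, ?_⟩
    exact ((MulAut.conj g).orderOf_eq x).trans hk
  rw [Subgroup.mem_normalizer_iff]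
  refine fun y => ⟨key g hg y, fun hy => ?_⟩
  have := key g⁻¹ (inv_mem hg) _ hy
  convert this using 1
  group

end Finite

/-! ### The vertices of a characteristic `p` amalgam pair -/

variable {X : Type*} [Group X] {p : ℕ} [hp : Fact p.Prime] {M₁ M₂ : Subgroup X}

lemma vertex_cases (δ : CosetVertex M₁ M₂) :
    ∃ x : X, δ = Sum.inl (x : X ⧸ M₁) ∨ δ = Sum.inr (x : X ⧸ M₂) := by
  rcases δ with v | v <;> induction v using QuotientGroup.induction_on with | _ x => ?_
  · exact ⟨x, Or.inl rfl⟩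
  · exact ⟨x, Or.inr rfl⟩

variable (h : IsCharPAmalgamPair p M₁ M₂)
include h

lemma finite_stabilizer (δ : CosetVertex M₁ M₂) : Finite (MulAction.stabilizer X δ) := by
  haveI := h.2.1
  haveI := h.2.2.1
  obtain ⟨x, rfl | rfl⟩ := vertex_cases δ
  · rw [stabilizer_inl]
    exact Finite.of_equiv _ (M₁.equivMapOfInjective _ (MulAut.conj x).injective).toEquiv
  · rw [stabilizer_inr]
    exact Finite.of_equiv _ (M₂.equivMapOfInjective _ (MulAut.conj x).injective).toEquiv

lemma vertex_charP (δ : CosetVertex M₁ M₂) :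
    MulAction.stabilizer X δ ⊓ Subgroup.centralizer (vertexQ p δ : Set X) ≤ vertexQ p δ := by
  refine inf_centralizer_pCoreOf_le ?_
  obtain ⟨-, -, -, -, -, -, h₁, h₂⟩ := h
  obtain ⟨x, rfl | rfl⟩ := vertex_cases δ
  · rw [stabilizer_inl]
    exact centralizer_pCore_le_transport (M₁.equivMapOfInjective _ (MulAut.conj x).injective) h₁
  · rw [stabilizer_inr]
    exact centralizer_pCore_le_transport (M₂.equivMapOfInjective _ (MulAut.conj x).injective) h₂

lemma edge_factorization {δ μ : CosetVertex M₁ M₂} (hadj : (cosetGraph M₁ M₂).Adj δ μ) :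
    (Nat.card (edgeStabilizer δ μ)).factorization p =
      (Nat.card (MulAction.stabilizer X δ)).factorization p := by
  haveI := h.2.1
  haveI := h.2.2.1
  haveI : Finite ↥(M₁ ⊓ M₂) :=
    Finite.of_injective _ (Subgroup.inclusion_injective (inf_le_left : M₁ ⊓ M₂ ≤ M₁))
  obtain ⟨-, -, -, -, -, hS, -, -⟩ := h
  obtain ⟨e₁, e₂⟩ := hS default default default
  rw [Sylow.card_eq_multiplicity, Sylow.card_eq_multiplicity] at e₁ e₂
  replace e₁ := Nat.pow_right_injective hp.out.two_le e₁
  replace e₂ := Nat.pow_right_injective hp.out.two_le e₂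
  obtain ⟨x, ⟨rfl, rfl⟩ | ⟨rfl, rfl⟩⟩ := adj_iff.mp hadj
  · rw [edgeStabilizer_inl_inr, stabilizer_inl,
      Subgroup.card_map_of_injective (MulAut.conj x).injective,
      Subgroup.card_map_of_injective (MulAut.conj x).injective]
    exact e₁
  · rw [edgeStabilizer, inf_comm]
    rw [show MulAction.stabilizer X (Sum.inl (x : X ⧸ M₁) : CosetVertex M₁ M₂) ⊓
        MulAction.stabilizer X (Sum.inr (x : X ⧸ M₂)) = _ from edgeStabilizer_inl_inr x,
      stabilizer_inr, Subgroup.card_map_of_injective (MulAut.conj x).injective,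
      Subgroup.card_map_of_injective (MulAut.conj x).injective]
    exact e₂

/-- An edge group contains a Sylow `p`-subgroup of each of its two vertex groups. -/
lemma exists_sylow_edge {δ μ : CosetVertex M₁ M₂} (hadj : (cosetGraph M₁ M₂).Adj δ μ) :
    ∃ T : Subgroup X, T ≤ edgeStabilizer δ μ ∧
      Nat.card T = p ^ (Nat.card (MulAction.stabilizer X δ)).factorization p ∧
      Nat.card T = p ^ (Nat.card (MulAction.stabilizer X μ)).factorization p := by
  haveI := finite_stabilizer h δ
  haveI : Finite ↥(edgeStabilizer δ μ) :=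
    Finite.of_injective _ (Subgroup.inclusion_injective (inf_le_left :
      edgeStabilizer δ μ ≤ MulAction.stabilizer X δ))
  let S : Sylow p ↥(edgeStabilizer δ μ) := default
  refine ⟨(S : Subgroup ↥(edgeStabilizer δ μ)).map (edgeStabilizer δ μ).subtype,
    Subgroup.map_subtype_le _, ?_, ?_⟩
  · rw [sylow_map_card, edge_factorization h hadj]
  · rw [sylow_map_card, ← edge_factorization h hadj.symm]
    rw [edgeStabilizer, edgeStabilizer, inf_comm]

lemma vertexQ_le_neighbourKernel (δ : CosetVertex M₁ M₂) :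
    vertexQ p δ ≤ neighbourKernel δ := by
  haveI := finite_stabilizer h δ
  intro g hg
  refine mem_neighbourKernel.mpr ⟨pCoreOf_le _ hg, fun μ hμ => ?_⟩
  obtain ⟨T, hT, hc, -⟩ := exists_sylow_edge h hμ
  exact (hT (pCoreOf_le_of_card _ T (hT.trans inf_le_left) hc hg)).2

lemma vertexZ_le_vertexQ (δ : CosetVertex M₁ M₂) : vertexZ p δ ≤ vertexQ p δ := by
  haveI := finite_stabilizer h δ
  refine iSup_le fun S => (omegaOne_le _).trans ?_
  rintro g ⟨hg, hc⟩
  refine vertex_charP h δ ⟨Subgroup.map_subtype_le _ hg, ?_⟩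
  refine Subgroup.mem_centralizer_iff.mpr fun q hq => Subgroup.mem_centralizer_iff.mp hc q ?_
  exact pCoreOf_le_of_card _ _ (Subgroup.map_subtype_le _) (sylow_map_card _ S) hq

lemma vertexZ_le_neighbourKernel (δ : CosetVertex M₁ M₂) :
    vertexZ p δ ≤ neighbourKernel δ :=
  (vertexZ_le_vertexQ h δ).trans (vertexQ_le_neighbourKernel h δ)

omit h in
lemma vertexZ_le_of_dist_lt {δ μ : CosetVertex M₁ M₂}
    (hd : (cosetGraph M₁ M₂).dist δ μ < criticalDistance p M₁ M₂) :
    vertexZ p δ ≤ neighbourKernel μ := by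
  by_contra hn
  exact Nat.notMem_of_lt_sInf hd ⟨δ, μ, rfl, hn⟩

/-- The first step of a shortest path between the vertices of a critical pair. -/
lemma exists_step {α α' : CosetVertex M₁ M₂} (hc : IsCriticalPair p α α') :
    ∃ β, (cosetGraph M₁ M₂).Adj α β ∧
      (cosetGraph M₁ M₂).dist β α' < criticalDistance p M₁ M₂ := by
  have hconn := cosetGraph_connected (M₁ := M₁) (M₂ := M₂) h.1.1
  obtain ⟨w, hw⟩ := hconn.exists_walk_length_eq_dist α α'
  cases w with
  | nil => exact absurd (vertexZ_le_neighbourKernel h α) hc.1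
  | @cons _ β _ hadj q =>
    refine ⟨β, hadj, ?_⟩
    have := SimpleGraph.dist_le q
    rw [SimpleGraph.Walk.length_cons, hc.2] at hw
    omega

/-- For a critical pair each `Z` fixes the other vertex. -/
lemma critical_mutual {α α' : CosetVertex M₁ M₂} (hc : IsCriticalPair p α α') :
    vertexZ p α' ≤ MulAction.stabilizer X α ∧ vertexZ p α ≤ MulAction.stabilizer X α' := by
  constructor
  · obtain ⟨β, hβ, hd⟩ := exists_step h hc
    rw [SimpleGraph.dist_comm] at hd
    exact (vertexZ_le_of_dist_lt hd).trans (neighbourKernel_le_stabilizer_of_adj hβ.symm)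
  · have hconn := cosetGraph_connected (M₁ := M₁) (M₂ := M₂) h.1.1
    obtain ⟨w, hw⟩ := hconn.exists_walk_length_eq_dist α' α
    cases w with
    | nil => exact absurd (vertexZ_le_neighbourKernel h _) hc.1
    | @cons _ γ _ hadj q =>
      have := SimpleGraph.dist_le q
      rw [SimpleGraph.Walk.length_cons, SimpleGraph.dist_comm, hc.2] at hw
      rw [SimpleGraph.dist_comm] at this
      exact (vertexZ_le_of_dist_lt (δ := α) (μ := γ) (by omega)).trans
        (neighbourKernel_le_stabilizer_of_adj hadj.symm)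

end CfsgLib.LocalEven
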