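import Cfsg.Prelude.Def_LocalEven
import Cfsg.Agent.Linear.SylowChar
import Mathlib.Tactic

/-!
# The natural module of `SL₂(F)` inside a group

Coordinates `Coord` in which a given Sylow `p`-subgroup of the acting group is upper unitriangular,
and the basic facts on fixed points and commutators read off from them.
-/

set_option autoImplicit false

namespace CfsgLib.LocalEven

open Matrix Subgroup CfsgLib.Linear
open scoped commutatorElement MatrixGroups

/-- Coordinates for a natural `SL₂(F)`-module `V` of `L` adapted to the subgroup `T` of `L`. -/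
structure Coord {G : Type*} [Group G] (F : Type*) [Field F] (V L T : Subgroup G) where
  /-- The representation. -/
  ρ : ↥L ≃* Matrix.SpecialLinearGroup (Fin 2) F
  /-- The coordinates. -/
  φ : ↥V → Fin 2 → F
  φ_bij : Function.Bijective φ
  φ_mul : ∀ v w, φ (v * w) = φ v + φ w
  norm : L ≤ Subgroup.normalizer (V : Set G)
  act : ∀ (l : ↥L) (v : ↥V), ∃ w : ↥V, (w : G) = l * v * (l : G)⁻¹ ∧ φ w = (ρ l).1 *ᵥ φ v
  mem_T : ∀ l : ↥L, (l : G) ∈ T ↔ ρ l ∈ upperSL (F := F)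
  T_le : T ≤ L

variable {G : Type*} [Group G] {F : Type*} [Field F] {V L T : Subgroup G}

theorem exists_coord [Finite G] [Fintype F] {p : ℕ} [Fact p.Prime] [CharP F p]
    (hnat : Cfsg.IsNaturalSL2Module F V L) (hf : L ⊓ Subgroup.centralizer (V : Set G) = ⊥)
    (S : Sylow p ↥L) (hT : T = (S : Subgroup ↥L).map L.subtype) :
    Nonempty (Coord F V L T) := by
  obtain ⟨hn, ρ, ψ, hsurj, hker, hact⟩ := hnat
  have hinj : Function.Injective ρ := by
    rw [← MonoidHom.ker_eq_bot_iff, hker, eq_bot_iff]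
    intro l hl
    rw [mem_bot]
    have : (l : G) ∈ L ⊓ Subgroup.centralizer (V : Set G) := ⟨l.2, hl⟩
    rw [hf, mem_bot] at this
    exact Subtype.ext this
  let e : ↥L ≃* Matrix.SpecialLinearGroup (Fin 2) F := MulEquiv.ofBijective ρ ⟨hinj, hsurj⟩
  obtain ⟨g, hg⟩ := MulAction.exists_smul_eq (Matrix.SpecialLinearGroup (Fin 2) F)
    (upperSylowSL (F := F) p) (S.mapSurjective (f := e.toMonoidHom) e.surjective)
  have hS : ∀ l : ↥L, l ∈ (S : Subgroup ↥L) ↔ g⁻¹ * ρ l * g ∈ upperSL (F := F) := by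
    intro l
    have h1 : l ∈ (S : Subgroup ↥L) ↔
        e l ∈ ((g • upperSylowSL (F := F) p : Sylow p _) : Subgroup _) := by
      rw [hg]
      constructor
      · exact fun h => ⟨l, h, rfl⟩
      · rintro ⟨l', hl', he⟩
        exact e.injective he ▸ hl'
    rw [h1, Sylow.coe_subgroup_smul, Subgroup.mem_pointwise_smul_iff_inv_smul_mem,
      coe_upperSylowSL]
    simp [e]
    rfl
  refine ⟨⟨e.trans (MulAut.conj g⁻¹), fun v => (g⁻¹).1 *ᵥ ψ (Additive.ofMul v), ?_, ?_, hn, ?_, ?_,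
    hT ▸ Subgroup.map_subtype_le _⟩⟩
  · refine Function.Bijective.comp (g := fun w => (g⁻¹).1 *ᵥ w) ⟨?_, ?_⟩
      (ψ.bijective.comp Additive.ofMul.bijective)
    · intro a b hab
      have h := congrArg (g.1 *ᵥ ·) hab
      simpa only [Matrix.mulVec_mulVec, ← Matrix.SpecialLinearGroup.coe_mul, mul_inv_cancel,
        Matrix.SpecialLinearGroup.coe_one, Matrix.one_mulVec] using h
    · intro a
      refine ⟨g.1 *ᵥ a, ?_⟩
      show (g⁻¹).1 *ᵥ (g.1 *ᵥ a) = a
      rw [Matrix.mulVec_mulVec, ← Matrix.SpecialLinearGroup.coe_mul, inv_mul_cancel,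
        Matrix.SpecialLinearGroup.coe_one, Matrix.one_mulVec]
  · intro v w
    rw [← Matrix.mulVec_add, ← map_add]
    rfl
  · intro l v
    obtain ⟨w, hw, hψ⟩ := hact l v
    refine ⟨w, hw, ?_⟩
    show (g⁻¹).1 *ᵥ _ = (g⁻¹ * ρ l * g⁻¹⁻¹).1 *ᵥ ((g⁻¹).1 *ᵥ _)
    rw [hψ, Matrix.mulVec_mulVec, Matrix.mulVec_mulVec, inv_inv,
      ← Matrix.SpecialLinearGroup.coe_mul, ← Matrix.SpecialLinearGroup.coe_mul,
      mul_inv_cancel_right]
  · intro l
    have h1 : (l : G) ∈ T ↔ l ∈ (S : Subgroup ↥L) := by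
      rw [hT]
      exact ⟨fun ⟨y, hy, he⟩ => Subtype.ext he ▸ hy, fun h => ⟨l, h, rfl⟩⟩
    rw [h1, hS]
    simp [e]
    rfl

namespace Coord

theorem upperUni_mulVec (x : F) (w : Fin 2 → F) :
    (upperUni x).1 *ᵥ w = ![w 0 + x * w 1, w 1] := by
  rw [upperUni_val]
  ext i
  fin_cases i <;> simp [Matrix.mulVec, dotProduct, Fin.sum_univ_two]


variable (C : Coord F V L T)

include C

theorem φ_one : C.φ 1 = 0 := by
  have h := C.φ_mul 1 1
  rw [one_mul] at h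
  exact left_eq_add.mp h

theorem φ_inv (v : ↥V) : C.φ v⁻¹ = - C.φ v := by
  have h := C.φ_mul v v⁻¹
  rw [mul_inv_cancel, φ_one] at h
  exact (neg_eq_of_add_eq_zero_right h.symm).symm

theorem commute {a b : G} (ha : a ∈ V) (hb : b ∈ V) : a * b = b * a :=
  congrArg Subtype.val (C.φ_bij.1 (a₁ := ⟨a, ha⟩ * ⟨b, hb⟩) (a₂ := ⟨b, hb⟩ * ⟨a, ha⟩)
    (by rw [C.φ_mul, C.φ_mul, add_comm]))

theorem exists_φ (w : Fin 2 → F) : ∃ v : ↥V, C.φ v = w := C.φ_bij.2 w

theorem mem_centralizer_iff_fixed (l : ↥L) (v : ↥V) :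
    (v : G) ∈ Subgroup.centralizer ({(l : G)} : Set G) ↔ (C.ρ l).1 *ᵥ C.φ v = C.φ v := by
  obtain ⟨w, hw, hφ⟩ := C.act l v
  rw [← hφ, Subgroup.mem_centralizer_singleton_iff, C.φ_bij.1.eq_iff, Subtype.ext_iff, hw,
    mul_inv_eq_iff_eq_mul]
  exact eq_comm

theorem exists_of_mem_T {t : G} (ht : t ∈ T) :
    ∃ (l : ↥L) (x : F), (l : G) = t ∧ C.ρ l = upperUni x := by
  obtain ⟨x, hx⟩ := mem_upperSL.mp ((C.mem_T ⟨t, C.T_le ht⟩).mp ht)
  exact ⟨_, x, rfl, hx.symm⟩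

theorem exists_upper (x : F) : ∃ l : ↥L, (l : G) ∈ T ∧ C.ρ l = upperUni x :=
  ⟨C.ρ.symm (upperUni x), (C.mem_T _).mpr (by rw [C.ρ.apply_symm_apply]; exact upperUni_mem x),
    C.ρ.apply_symm_apply _⟩

theorem mem_centralizer_T (v : ↥V) :
    (v : G) ∈ Subgroup.centralizer (T : Set G) ↔ C.φ v 1 = 0 := by
  constructor
  · intro h
    obtain ⟨l, hl, hρ⟩ := C.exists_upper 1
    have h1 := (C.mem_centralizer_iff_fixed l v).mp
      (Subgroup.centralizer_le (Set.singleton_subset_iff.mpr hl) h)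
    rw [hρ, upperUni_mulVec] at h1
    simpa using congrFun h1 0
  · intro h
    rw [Subgroup.mem_centralizer_iff]
    intro t ht
    obtain ⟨l, x, rfl, hρ⟩ := C.exists_of_mem_T ht
    have h1 : (C.ρ l).1 *ᵥ C.φ v = C.φ v := by
      rw [hρ, upperUni_mulVec]
      ext i
      fin_cases i <;> simp [h]
    exact ((Subgroup.mem_centralizer_singleton_iff).mp
      ((C.mem_centralizer_iff_fixed l v).mpr h1)).symm

/-- The fixed points of `T` on `V`. -/
theorem mem_fix (v : ↥V) : (v : G) ∈ V ⊓ Subgroup.centralizer (T : Set G) ↔ C.φ v 1 = 0 :=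
  ⟨fun h => (C.mem_centralizer_T v).mp h.2, fun h => ⟨v.2, (C.mem_centralizer_T v).mpr h⟩⟩

/-- The commutator of a vector with an upper unitriangular element. -/
theorem exists_commutator (l : ↥L) (x : F) (hρ : C.ρ l = upperUni x) (v : ↥V) :
    ∃ w : ↥V, (w : G) = ⁅(v : G), (l : G)⁆ ∧ C.φ w = ![-(x * C.φ v 1), 0] := by
  obtain ⟨w, hw, hφ⟩ := C.act l v⁻¹
  refine ⟨v * w, ?_, ?_⟩
  · rw [Subgroup.coe_mul, hw, commutatorElement_def, InvMemClass.coe_inv]
    group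
  · rw [C.φ_mul, hφ, C.φ_inv, hρ, upperUni_mulVec]
    ext i
    fin_cases i <;> simp

theorem card_V [Fintype F] : Nat.card ↥V = Fintype.card F ^ 2 := by
  rw [Nat.card_congr (Equiv.ofBijective _ C.φ_bij), Nat.card_fun, Nat.card_eq_fintype_card,
    Nat.card_fin]

theorem card_fix [Fintype F] :
    Nat.card ↥(V ⊓ Subgroup.centralizer (T : Set G)) = Fintype.card F := by
  rw [← Nat.card_eq_fintype_card (α := F)]
  refine Nat.card_congr (Equiv.ofBijective (fun v => C.φ ⟨v.1, v.2.1⟩ 0) ⟨?_, ?_⟩)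
  · intro a b hab
    have ha := (C.mem_fix ⟨a.1, a.2.1⟩).mp a.2
    have hb := (C.mem_fix ⟨b.1, b.2.1⟩).mp b.2
    have h : C.φ ⟨a.1, a.2.1⟩ = C.φ ⟨b.1, b.2.1⟩ := by
      ext i
      fin_cases i
      · exact hab
      · exact ha.trans hb.symm
    exact Subtype.ext (congrArg (fun z : ↥V => (z : G)) (C.φ_bij.1 h))
  · intro x
    obtain ⟨v, hv⟩ := C.exists_φ ![x, 0]
    exact ⟨⟨v.1, (C.mem_fix v).mpr (by rw [hv]; rfl)⟩, show C.φ v 0 = x by rw [hv]; rfl⟩

theorem commutator_le_fix : ⁅V, T⁆ ≤ V ⊓ Subgroup.centralizer (T : Set G) := by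
  rw [Subgroup.commutator_le]
  intro a ha t ht
  obtain ⟨l, x, rfl, hρ⟩ := C.exists_of_mem_T ht
  obtain ⟨w, hw, hφ⟩ := C.exists_commutator l x hρ ⟨a, ha⟩
  rw [← show (w : G) = ⁅a, (l : G)⁆ from hw]
  exact (C.mem_fix w).mpr (by rw [hφ]; rfl)

/-- An element of `L` whose matrix has lower left entry `0` normalizes `T`. -/
theorem mem_normalizer_T (g : ↥L) (hc : (C.ρ g).1 1 0 = 0) :
    (g : G) ∈ Subgroup.normalizer (T : Set G) := by
  have key : ∀ h : ↥L, (C.ρ h).1 1 0 = 0 → ∀ t ∈ T, (h : G) * t * (h : G)⁻¹ ∈ T := by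
    intro h hh t ht
    obtain ⟨l, x, rfl, hρ⟩ := C.exists_of_mem_T ht
    have hm : h * l * h⁻¹ = h * l * h⁻¹ := rfl
    refine (C.mem_T (h * l * h⁻¹)).mpr (mem_upperSL.mpr ⟨(C.ρ h).1 0 0 ^ 2 * x, ?_⟩)
    rw [map_mul, map_mul, map_inv, hρ, eq_mul_inv_iff_mul_eq]
    have hd : (C.ρ h).1 0 0 * (C.ρ h).1 1 1 = 1 := by
      have := (C.ρ h).2
      rw [Matrix.det_fin_two, hh, mul_zero, sub_zero] at this
      exact this
    apply Subtype.ext
    rw [Matrix.SpecialLinearGroup.coe_mul, Matrix.SpecialLinearGroup.coe_mul, upperUni_val,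
      upperUni_val]
    ext i j
    fin_cases i <;> fin_cases j <;> simp [Matrix.mul_apply, Fin.sum_univ_two, hh]
    linear_combination (C.ρ h).1 0 0 * x * hd
  refine Subgroup.mem_normalizer_iff.mpr fun t => ⟨key g hc t, fun ht => ?_⟩
  have h2 : (C.ρ g⁻¹).1 1 0 = 0 := by
    rw [map_inv, Matrix.SpecialLinearGroup.coe_inv, Matrix.adjugate_fin_two]
    simp [hc]
  have h3 := key g⁻¹ h2 _ ht
  simpa [mul_assoc] using h3

/-- An element acting on `V` with a nonzero fixed vector has order dividing the characteristic. -/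
theorem pow_eq_one_of_fixed (p : ℕ) [Fact p.Prime] [CharP F p] (l : ↥L) (v : ↥V) (hv : v ≠ 1)
    (h : (v : G) ∈ Subgroup.centralizer ({(l : G)} : Set G)) : l ^ p = 1 := by
  set M := (C.ρ l).1 with hM
  have hfix := (C.mem_centralizer_iff_fixed l v).mp h
  have hne : C.φ v ≠ 0 := fun e => hv (C.φ_bij.1 (e.trans C.φ_one.symm))
  have hd0 : (M - 1).det = 0 :=
    Matrix.exists_mulVec_eq_zero_iff.mp ⟨_, hne, by
      rw [Matrix.sub_mulVec, Matrix.one_mulVec, hfix, sub_self]⟩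
  have hd1 : M.det = 1 := (C.ρ l).2
  rw [Matrix.det_fin_two] at hd0 hd1
  simp at hd0
  have hsq : (M - 1) ^ 2 = 0 := by
    rw [pow_two]
    ext i j
    fin_cases i <;> fin_cases j <;> simp [Matrix.mul_apply, Fin.sum_univ_two]
    · linear_combination -M 0 0 * hd0 + (M 0 0 - 1) * hd1
    · linear_combination -M 0 1 * hd0 + M 0 1 * hd1
    · linear_combination -M 1 0 * hd0 + M 1 0 * hd1
    · linear_combination -M 1 1 * hd0 + (M 1 1 - 1) * hd1
  have hp : M ^ p = 1 := by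
    have h1 : (M - 1) ^ p = M ^ p - 1 := by
      rw [sub_pow_char_of_commute p (Commute.one_right _), one_pow]
    rw [pow_eq_zero_of_le (Fact.out : p.Prime).two_le hsq] at h1
    exact sub_eq_zero.mp h1.symm
  apply C.ρ.injective
  rw [map_pow, map_one]
  exact Subtype.ext (by rw [Matrix.SpecialLinearGroup.coe_pow, ← hM, hp]; rfl)

/-- An element of `N_L(T)` scaling the coordinates. -/
theorem exists_torus (t : F) (ht : t ≠ 0) :
    ∃ l : ↥L, (l : G) ∈ L ⊓ Subgroup.normalizer (T : Set G) ∧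
      ∀ v : ↥V, ∃ w : ↥V, (w : G) = l * v * (l : G)⁻¹ ∧ C.φ w = ![t * C.φ v 0, t⁻¹ * C.φ v 1] := by
  let d : Matrix.SpecialLinearGroup (Fin 2) F :=
    ⟨!![t, 0; 0, t⁻¹], by simp [Matrix.det_fin_two, ht]⟩
  refine ⟨C.ρ.symm d, ⟨(C.ρ.symm d).2, C.mem_normalizer_T _ (by rw [C.ρ.apply_symm_apply]; simp [d])⟩, fun v => ?_⟩
  obtain ⟨w, hw, hφ⟩ := C.act (C.ρ.symm d) v
  refine ⟨w, hw, ?_⟩
  rw [hφ, C.ρ.apply_symm_apply]
  ext i
  fin_cases i <;> simp [d, Matrix.mulVec, dotProduct, Fin.sum_univ_two]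

end Coord

end CfsgLib.LocalEven
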