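import Cfsg.Agent.LocalEven.SL2Transvections.Main
import Cfsg.Agent.PLocal.QuadraticPair
import Mathlib.LinearAlgebra.Matrix.Charpoly.Coeff
import Mathlib.LinearAlgebra.Dual.Lemmas
import Mathlib.FieldTheory.IsAlgClosed.AlgebraicClosure
import Mathlib.Algebra.CharP.Algebra

/-!
# Quadratic pairs and natural `SL₂(p)`-submodules

`exists_plane`: two quadratic elements generating a non-`p`-group act on some plane as an upper and
a lower transvection.  `exists_natural_sub`: hence some elements act as `SL₂(p)` on a natural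
submodule over the prime field.
-/

set_option autoImplicit false

namespace CfsgLib.LocalEven

open Matrix CfsgLib.Linear
open scoped MatrixGroups

variable {K : Type*} [Field K] {p : ℕ} [Fact p.Prime] [CharP K p]
variable {W : Type*} [AddCommGroup W] [Module K W]
variable {X : Type*} [Group X]

omit [Fact p.Prime] [CharP K p] in
/-- A nonzero eigenvalue of `xy + yx` gives an invariant plane with two transvections. -/
theorem exists_plane_of_eigen (ρ : X →* Module.End K W) {a b : X}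
    (hgen : Subgroup.closure ({a, b} : Set X) = ⊤) (ha : (ρ a - 1) * (ρ a - 1) = 0)
    (hb : (ρ b - 1) * (ρ b - 1) = 0) {μ : K} (hμ : μ ≠ 0) {u : W} (hu0 : u ≠ 0)
    (hu : ((ρ a - 1) * (ρ b - 1) + (ρ b - 1) * (ρ a - 1)) u = μ • u) :
    ∃ (ι : (Fin 2 → K) →ₗ[K] W) (φ : X →* SL(2, K)) (ν : K), Function.Injective ι ∧ ν ≠ 0 ∧
      φ a = upperUni ν ∧ φ b = lowerUni 1 ∧ ∀ g c, ρ g (ι c) = ι ((φ g).1 *ᵥ c) := by
  set x := ρ a - 1 with hxd
  set y := ρ b - 1 with hyd
  obtain ⟨w, hw0, hxw, hzw⟩ : ∃ w, w ≠ 0 ∧ x w = 0 ∧ (x * y + y * x) w = μ • w := by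
    by_cases h : x u = 0
    · exact ⟨u, hu0, h, hu⟩
    · exact ⟨x u, h, by rw [← Module.End.mul_apply, ha, LinearMap.zero_apply],
        by rw [← Module.End.mul_apply, ← (CfsgLib.PLocal.QuadraticPair.z_comm_left ha).eq,
          Module.End.mul_apply, hu, map_smul]⟩
  set v := y w with hvd
  have hyv : y v = 0 := by rw [hvd, ← Module.End.mul_apply, hb, LinearMap.zero_apply]
  have hxv : x v = μ • w := by
    rw [hvd, ← hzw, LinearMap.add_apply, Module.End.mul_apply, Module.End.mul_apply, hxw, map_zero,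
      add_zero]
  let ι : (Fin 2 → K) →ₗ[K] W :=
    (LinearMap.proj 0 : (Fin 2 → K) →ₗ[K] K).smulRight w +
      (LinearMap.proj 1 : (Fin 2 → K) →ₗ[K] K).smulRight v
  have hιc : ∀ c, ι c = c 0 • w + c 1 • v := fun c => rfl
  have hι : Function.Injective ι := by
    rw [← LinearMap.ker_eq_bot, LinearMap.ker_eq_bot']
    intro c hc
    rw [hιc] at hc
    have h1 : c 1 = 0 := by
      have h := congrArg x hc
      rw [map_add, map_smul, map_smul, hxw, hxv, smul_zero, zero_add, smul_smul, map_zero] at h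
      exact (mul_eq_zero.mp ((smul_eq_zero.mp h).resolve_right hw0)).resolve_right hμ
    rw [h1, zero_smul, add_zero] at hc
    funext i
    fin_cases i
    · exact (smul_eq_zero.mp hc).resolve_right hw0
    · exact h1
  have hga : ∀ c, ρ a (ι c) = ι ((upperUni μ).1 *ᵥ c) := fun c => by
    have e : ρ a (ι c) = x (ι c) + ι c := by
      rw [hxd, LinearMap.sub_apply, Module.End.one_apply, sub_add_cancel]
    rw [e, hιc, hιc, upperUni_val]
    simp only [map_add, map_smul, hxw, hxv, Matrix.mulVec, dotProduct, Fin.sum_univ_two,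
      Matrix.of_apply, Matrix.cons_val_zero, Matrix.cons_val_one]
    module
  have hgb : ∀ c, ρ b (ι c) = ι ((lowerUni (1 : K)).1 *ᵥ c) := fun c => by
    have e : ρ b (ι c) = y (ι c) + ι c := by
      rw [hyd, LinearMap.sub_apply, Module.End.one_apply, sub_add_cancel]
    rw [e, hιc, hιc, lowerUni_val]
    simp only [map_add, map_smul, hyv, ← hvd, Matrix.mulVec, dotProduct, Fin.sum_univ_two,
      Matrix.of_apply, Matrix.cons_val_zero, Matrix.cons_val_one]
    module
  -- the elements acting on the plane as special linear maps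
  let Good : X → SL(2, K) → Prop := fun g M => ∀ c, ρ g (ι c) = ι (M.1 *ᵥ c)
  have huniq : ∀ g M N, Good g M → Good g N → M = N := fun g M N hM hN =>
    Subtype.ext (Matrix.toLin'.injective (LinearMap.ext fun c => by
      rw [Matrix.toLin'_apply, Matrix.toLin'_apply]
      exact hι ((hM c).symm.trans (hN c))))
  have hgmul : ∀ g h M N, Good g M → Good h N → Good (g * h) (M * N) := fun g h M N hM hN c => by
    rw [map_mul, Module.End.mul_apply, hN, hM, Matrix.SpecialLinearGroup.coe_mul,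
      Matrix.mulVec_mulVec]
  have hgone : Good 1 1 := fun c => by
    rw [map_one, Module.End.one_apply, Matrix.SpecialLinearGroup.coe_one, Matrix.one_mulVec]
  have hex : ∀ g, ∃ M, Good g M := fun g => by
    have hg : g ∈ Subgroup.closure ({a, b} : Set X) := hgen ▸ Subgroup.mem_top g
    induction hg using Subgroup.closure_induction with
    | mem c hc =>
      rcases hc with rfl | rfl
      · exact ⟨_, hga⟩
      · exact ⟨_, hgb⟩
    | one => exact ⟨1, hgone⟩
    | mul g h _ _ ihg ihh =>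
      obtain ⟨M, hM⟩ := ihg
      obtain ⟨N, hN⟩ := ihh
      exact ⟨_, hgmul g h M N hM hN⟩
    | inv g _ ih =>
      obtain ⟨M, hM⟩ := ih
      refine ⟨M⁻¹, fun c => ?_⟩
      have h1 : ρ g (ι ((M⁻¹).1 *ᵥ c)) = ι c := by
        rw [hM, Matrix.mulVec_mulVec, ← Matrix.SpecialLinearGroup.coe_mul, mul_inv_cancel,
          Matrix.SpecialLinearGroup.coe_one, Matrix.one_mulVec]
      rw [← h1, ← Module.End.mul_apply, ← map_mul, inv_mul_cancel, map_one, Module.End.one_apply]
  choose F hF using hex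
  exact ⟨ι, MonoidHom.mk' F fun g h => huniq _ _ _ (hF _) (hgmul g h _ _ (hF g) (hF h)), μ, hι, hμ,
    huniq _ _ _ (hF a) hga, huniq _ _ _ (hF b) hgb, hF⟩

/-- Two quadratic elements generating a non-`p`-group act on a plane as transvections. -/
theorem exists_plane (ρ : X →* Module.End K W) {a b : X}
    (hgen : Subgroup.closure ({a, b} : Set X) = ⊤) (ha : (ρ a - 1) * (ρ a - 1) = 0)
    (hb : (ρ b - 1) * (ρ b - 1) = 0) {f : Polynomial K} (hm : f.Monic) (hf : f.Splits)
    (hn : IsNilpotent (Polynomial.aeval (ρ (a * b)) f))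
    (hnp : ∃ g : X, ∀ k : ℕ, ρ (g ^ p ^ k) ≠ 1) :
    ∃ (ι : (Fin 2 → K) →ₗ[K] W) (φ : X →* SL(2, K)) (ν : K), Function.Injective ι ∧ ν ≠ 0 ∧
      φ a = upperUni ν ∧ φ b = lowerUni 1 ∧ ∀ g c, ρ g (ι c) = ι ((φ g).1 *ᵥ c) := by
  set c := a * b with hcd
  have hinv : ρ c⁻¹ * ρ c = 1 := by rw [← map_mul, inv_mul_cancel, map_one]
  have hinv' : ρ c * ρ c⁻¹ = 1 := by rw [← map_mul, mul_inv_cancel, map_one]
  have hz : (ρ a - 1) * (ρ b - 1) + (ρ b - 1) * (ρ a - 1) = ρ c + ρ c⁻¹ - (1 + 1) :=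
    CfsgLib.PLocal.QuadraticPair.z_eq ρ ha hb
  obtain ⟨ζ, hζ, u, hu0, hu⟩ := CfsgLib.PLocal.QuadraticPair.exists_eigen_ne_one (ρ c) hm hf hn (by
    intro hnil
    obtain ⟨g, hg⟩ := hnp
    obtain ⟨k, hk⟩ := CfsgLib.PLocal.QuadraticPair.exists_pow_eq_one_of_nilpotent (p := p) ρ hgen
      ha hb (by
        have e : ρ c + ρ c⁻¹ - (1 + 1) = (ρ c - 1) * ((ρ c - 1) * ρ c⁻¹) := by
          simp only [sub_mul, mul_sub, one_mul, mul_one, ← mul_assoc, hinv']
          abel
        rw [hz, e]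
        refine Commute.isNilpotent_mul_right ?_ hnil
        have hcc : Commute (ρ c - 1) (ρ c⁻¹) :=
          Commute.sub_left (show Commute (ρ c) (ρ c⁻¹) from hinv'.trans hinv.symm)
            (Commute.one_left _)
        exact (Commute.refl _).mul_right hcc) g
    exact hg k hk)
  have hζ0 : ζ ≠ 0 := by
    rintro rfl
    apply hu0
    rw [← Module.End.one_apply (R := K) u, ← hinv, Module.End.mul_apply, hu, zero_smul, map_zero]
  have hu' : ρ c⁻¹ u = ζ⁻¹ • u := by
    have : ζ • ρ c⁻¹ u = u := by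
      rw [← map_smul, ← hu, ← Module.End.mul_apply, hinv, Module.End.one_apply]
    conv_rhs => rw [← this, smul_smul, inv_mul_cancel₀ hζ0, one_smul]
  refine exists_plane_of_eigen ρ hgen ha hb (μ := ζ + ζ⁻¹ - (1 + 1)) ?_ hu0 ?_
  · intro h
    apply hζ
    have : (ζ - 1) * (ζ - 1) = 0 := by
      calc (ζ - 1) * (ζ - 1) = ζ * ζ + ζ * ζ⁻¹ - ζ * (1 + 1) := by rw [mul_inv_cancel₀ hζ0]; ring
        _ = ζ * (ζ + ζ⁻¹ - (1 + 1)) := by ring
        _ = 0 := by rw [h, mul_zero]
    exact sub_eq_zero.mp ((mul_eq_zero.mp this).elim id id)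
  · rw [hz]
    simp only [LinearMap.sub_apply, LinearMap.add_apply, Module.End.one_apply, hu, hu']
    module

/-- A nonzero vector of the plane is the first column of an element of `SL₂`. -/
theorem exists_sl2_mulVec {F : Type*} [Field F] {v : Fin 2 → F} (hv : v ≠ 0) :
    ∃ M : SL(2, F), M.1 *ᵥ v = Pi.single 0 1 := by
  by_cases h0 : v 0 = 0
  · have h1 : v 1 ≠ 0 := fun h1 => hv (funext fun i => by fin_cases i <;> simp [h0, h1])
    refine ⟨⟨!![0, (v 1)⁻¹; -v 1, 0], by simp [Matrix.det_fin_two, h1]⟩, ?_⟩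
    ext i
    fin_cases i <;> simp [Matrix.mulVec, dotProduct, Fin.sum_univ_two, h0, h1]
  · refine ⟨⟨!![(v 0)⁻¹, 0; -v 1, v 0], by simp [Matrix.det_fin_two, h0]⟩, ?_⟩
    ext i
    fin_cases i <;> simp [Matrix.mulVec, dotProduct, Fin.sum_univ_two, h0, mul_comm]

/-- Two quadratic elements generating a non-`p`-group of matrices over the prime field give a natural
`SL₂(p)`-submodule. -/
theorem exists_natural_sub {p : ℕ} [Fact p.Prime] (hp2 : p ≠ 2) {n : ℕ} {X : Type*} [Group X]
    [Finite X] (e : X →* Matrix (Fin n) (Fin n) (ZMod p)) {a b : X}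
    (hgen : Subgroup.closure ({a, b} : Set X) = ⊤) (ha : (e a - 1) * (e a - 1) = 0)
    (hb : (e b - 1) * (e b - 1) = 0) (hnp : ∃ g : X, ∀ k : ℕ, e (g ^ p ^ k) ≠ 1) :
    ∃ j : (Fin 2 → ZMod p) →ₗ[ZMod p] (Fin n → ZMod p), Function.Injective j ∧
      ∀ M : SL(2, ZMod p), ∃ g : X, ∀ v, e g *ᵥ j v = j (M.1 *ᵥ v) := by
  let K := AlgebraicClosure (ZMod p)
  haveI : CharP K p := charP_of_injective_algebraMap (algebraMap (ZMod p) K).injective p
  let m : Matrix (Fin n) (Fin n) (ZMod p) →+* Matrix (Fin n) (Fin n) K :=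
    (algebraMap (ZMod p) K).mapMatrix
  have hm : Function.Injective m := Matrix.map_injective (algebraMap (ZMod p) K).injective
  let T : Matrix (Fin n) (Fin n) K ≃ₐ[K] Module.End K (Fin n → K) := Matrix.toLinAlgEquiv'
  let ρ : X →* Module.End K (Fin n → K) :=
    (T.toAlgHom.toRingHom.comp m).toMonoidHom.comp e
  have hρ : ∀ g, ρ g = T (m (e g)) := fun g => rfl
  have hquad : ∀ g, (e g - 1) * (e g - 1) = 0 → (ρ g - 1) * (ρ g - 1) = 0 := fun g hg => by
    rw [hρ, ← map_one T, ← map_one m, ← map_sub, ← map_sub, ← map_mul, ← map_mul, hg, map_zero,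
      map_zero]
  obtain ⟨ι, φ, ν, hι, hν, hφa, hφb, hint⟩ := exists_plane (p := p) ρ hgen (hquad a ha) (hquad b hb)
    (f := (m (e (a * b))).charpoly) (Matrix.charpoly_monic _) (IsAlgClosed.splits _) (by
      refine ⟨1, ?_⟩
      rw [pow_one, hρ]
      show Polynomial.aeval (T.toAlgHom (m (e (a * b)))) _ = 0
      rw [Polynomial.aeval_algHom_apply, Matrix.aeval_self_charpoly, map_zero]) (by
      obtain ⟨g, hg⟩ := hnp
      refine ⟨g, fun k hk => hg k (hm (T.injective ?_))⟩
      rw [map_one, map_one]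
      exact hk)
  -- the image contains the standard subgroup after a change of coordinates
  have h1 : ((φ.rangeRestrict a).1.1 - 1) * ((φ.rangeRestrict a).1.1 - 1) = 0 := by
    rw [MonoidHom.coe_rangeRestrict, hφa, upperUni_val]
    ext i j
    fin_cases i <;> fin_cases j <;> simp [Matrix.mul_apply, Fin.sum_univ_two]
  have h2 : ((φ.rangeRestrict b).1.1 - 1) * ((φ.rangeRestrict b).1.1 - 1) = 0 := by
    rw [MonoidHom.coe_rangeRestrict, hφb, lowerUni_val]
    ext i j
    fin_cases i <;> fin_cases j <;> simp [Matrix.mul_apply, Fin.sum_univ_two]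
  haveI : Finite φ.range := Finite.of_surjective _ φ.rangeRestrict_surjective
  obtain ⟨P, ψ, -, hψ⟩ := SL2T.exists_sl2_hom (p := p) hp2 φ.range.subtype
    φ.range.subtype_injective (x := φ.rangeRestrict a) (y := φ.rangeRestrict b) h1 h2 (by
      intro h
      have h' := congrArg (fun z : φ.range => (z : SL(2, K)).1 0 0) h
      simp [hφa, hφb, upperUni_val, lowerUni_val, Matrix.mul_apply, Fin.sum_univ_two] at h'
      exact hν h')
  -- descend to the prime field
  let c : (Fin 2 → ZMod p) → (Fin 2 → K) := fun v => algebraMap (ZMod p) K ∘ v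
  set e₀ : Fin n → K := ι (P.1 *ᵥ c (Pi.single 0 1)) with he₀
  have he0 : e₀ ≠ 0 := by
    intro h
    have h3 := hι (h.trans (map_zero ι).symm)
    have h4 : c (Pi.single 0 1) = 0 := by
      have h5 := congrArg ((P⁻¹).1 *ᵥ ·) h3
      simp only [Matrix.mulVec_zero] at h5
      have h6 : ∀ v : Fin 2 → K, (P⁻¹).1 *ᵥ (P.1 *ᵥ v) = v := fun v => by
        rw [Matrix.mulVec_mulVec]
        exact (congrArg (· *ᵥ v) P.inv_mul).trans (Matrix.one_mulVec v)
      rwa [h6] at h5
    have h5 := congrFun h4 0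
    simp [c] at h5
  obtain ⟨i₀, hi₀⟩ := Function.ne_iff.mp he0
  obtain ⟨π, hπ⟩ := Module.Projective.exists_dual_ne_zero (ZMod p) (x := e₀ i₀) hi₀
  let j : (Fin 2 → ZMod p) →ₗ[ZMod p] (Fin n → ZMod p) :=
    (π.compLeft (Fin n)).comp ((ι.restrictScalars (ZMod p)).comp
      ((P.1.mulVecLin.restrictScalars (ZMod p)).comp ((Algebra.linearMap (ZMod p) K).compLeft (Fin 2))))
  have hj : ∀ v i, j v i = π (ι (P.1 *ᵥ c v) i) := fun v i => rfl
  have key : ∀ M : SL(2, ZMod p), ∃ g : X, ∀ v, e g *ᵥ j v = j (M.1 *ᵥ v) := by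
    intro M
    obtain ⟨g, hg⟩ := (ψ M).2
    refine ⟨g, fun v => funext fun i => ?_⟩
    have hM := hψ M
    rw [Subgroup.coe_subtype, ← hg] at hM
    have hcast : ZMod.castHom (dvd_refl p) K = algebraMap (ZMod p) K := Subsingleton.elim _ _
    have h3 : c (M.1 *ᵥ v) = M.1.map (algebraMap (ZMod p) K) *ᵥ c v := by
      funext k
      exact RingHom.map_mulVec _ _ _ _
    rw [hj, h3, Matrix.mulVec_mulVec, ← hcast, ← hM, ← Matrix.mulVec_mulVec, ← hint]
    rw [hρ]
    show (e g *ᵥ j v) i = π ((m (e g) *ᵥ ι (P.1 *ᵥ c v)) i)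
    simp only [Matrix.mulVec, dotProduct, map_sum]
    refine Finset.sum_congr rfl fun k _ => ?_
    rw [show m (e g) i k = algebraMap (ZMod p) K (e g i k) from rfl, ← Algebra.smul_def, map_smul,
      smul_eq_mul]
    rfl
  refine ⟨j, ?_, key⟩
  rw [← LinearMap.ker_eq_bot, LinearMap.ker_eq_bot']
  intro v hv
  by_contra hne
  obtain ⟨M, hM⟩ := exists_sl2_mulVec hne
  obtain ⟨g, hg⟩ := key M
  have h3 := hg v
  rw [hv, Matrix.mulVec_zero, hM] at h3
  exact hπ ((hj _ i₀).symm.trans (congrFun h3.symm i₀))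

end CfsgLib.LocalEven
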