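import Cfsg.Prelude.Def_LocalEven
import Cfsg.Agent.Transfer.Alperin
import Cfsg.Agent.TwoGroups.Closed
import Mathlib.Tactic

/-!
# An abelian strongly closed subgroup controls strong fusion

`exists_mem_normalizer_conj_eq`: if `A` is abelian and strongly closed in the Sylow subgroup `P`,
conjugations between subgroups of `P` are induced by `N(A)`.
-/

set_option autoImplicit false

namespace CfsgLib.LocalEven

open Subgroup CfsgLib.Transfer

variable {G : Type*} [Group G] {p : ℕ}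

/-- The elements of `N(D)` centralizing `A₀` and `D / A₀`. -/
def chainStab (D A₀ : Subgroup G) : Subgroup G where
  carrier := {n | n ∈ normalizer (D : Set G) ∧ (∀ a ∈ A₀, n * a * n⁻¹ = a) ∧
    ∀ d ∈ D, n * d * n⁻¹ * d⁻¹ ∈ A₀}
  one_mem' := ⟨one_mem _, fun a _ => by simp, fun d _ => by simp⟩
  mul_mem' := by
    rintro n m ⟨hn, hna, hnd⟩ ⟨hm, hma, hmd⟩
    refine ⟨mul_mem hn hm, fun a ha => ?_, fun d hd => ?_⟩
    · calc n * m * a * (n * m)⁻¹ = n * (m * a * m⁻¹) * n⁻¹ := by group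
        _ = a := by rw [hma a ha, hna a ha]
    · have h := mul_mem (hmd d hd) (hnd d hd)
      convert h using 1
      calc n * m * d * (n * m)⁻¹ * d⁻¹
          = (n * (m * d * m⁻¹ * d⁻¹) * n⁻¹) * (n * d * n⁻¹ * d⁻¹) := by group
        _ = _ := by rw [hna _ (hmd d hd)]
  inv_mem' := by
    rintro n ⟨hn, hna, hnd⟩
    refine ⟨inv_mem hn, fun a ha => ?_, fun d hd => ?_⟩
    · calc n⁻¹ * a * n⁻¹⁻¹ = n⁻¹ * (n * a * n⁻¹) * n := by rw [hna a ha]; group
        _ = a := by group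
    · have h := inv_mem (hnd _ ((mem_normalizer_iff''.mp hn d).mp hd))
      convert h using 1
      group

theorem mem_chainStab {D A₀ : Subgroup G} {n : G} :
    n ∈ chainStab D A₀ ↔ n ∈ normalizer (D : Set G) ∧ (∀ a ∈ A₀, n * a * n⁻¹ = a) ∧
      ∀ d ∈ D, n * d * n⁻¹ * d⁻¹ ∈ A₀ := Iff.rfl

theorem conj_mem_chainStab {D A₀ : Subgroup G}
    (hA₀ : ∀ n ∈ normalizer (D : Set G), ∀ a ∈ A₀, n * a * n⁻¹ ∈ A₀) {k x : G}
    (hk : k ∈ chainStab D A₀) (hx : x ∈ normalizer (D : Set G)) :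
    x * k * x⁻¹ ∈ chainStab D A₀ := by
  obtain ⟨hn, hna, hnd⟩ := hk
  refine ⟨mul_mem (mul_mem hx hn) (inv_mem hx), fun a ha => ?_, fun d hd => ?_⟩
  · have h := hna (x⁻¹ * a * x⁻¹⁻¹) (hA₀ _ (inv_mem hx) a ha)
    calc x * k * x⁻¹ * a * (x * k * x⁻¹)⁻¹ = x * (k * (x⁻¹ * a * x⁻¹⁻¹) * k⁻¹) * x⁻¹ := by group
      _ = a := by rw [h]; group
  · have h := hA₀ _ hx _ (hnd _ ((mem_normalizer_iff''.mp hx d).mp hd))
    convert h using 1
    group

/-- The `p'`-elements of the chain stabilizer centralize `D`. -/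
theorem mem_centralizer_of_chainStab {D A₀ : Subgroup G} [Fact p.Prime] (hD : IsPGroup p D)
    (hA₀ : A₀ ≤ D) {k : G} (hk : k ∈ chainStab D A₀) (ho : (orderOf k).Coprime p) :
    k ∈ centralizer (D : Set G) := by
  obtain ⟨-, hka, hkd⟩ := hk
  rw [mem_centralizer_iff]
  intro d hd
  obtain ⟨a, ha⟩ : ∃ a, a = k * d * k⁻¹ * d⁻¹ := ⟨_, rfl⟩
  have hfix := hka a (ha ▸ hkd d hd)
  have hstep : k * d * k⁻¹ = a * d := by rw [ha, inv_mul_cancel_right]
  have hpow : ∀ i : ℕ, k ^ i * d * (k ^ i)⁻¹ = a ^ i * d := by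
    intro i
    induction i with
    | zero => simp
    | succ i ih =>
      calc k ^ (i + 1) * d * (k ^ (i + 1))⁻¹ = k * (k ^ i * d * (k ^ i)⁻¹) * k⁻¹ := by
            rw [pow_succ']; group
        _ = k * (a ^ i * d) * k⁻¹ := by rw [ih]
        _ = (k * a * k⁻¹) ^ i * (k * d * k⁻¹) := by rw [conj_pow]; group
        _ = a ^ (i + 1) * d := by rw [hfix, hstep, pow_succ, mul_assoc]
  have h1 : a ^ orderOf k = 1 := by
    have h := hpow (orderOf k)
    rw [pow_orderOf_eq_one, one_mul, inv_one, mul_one] at h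
    exact right_eq_mul.mp h
  obtain ⟨i, hi⟩ := hD ⟨a, hA₀ (ha ▸ hkd d hd)⟩
  have hi' : a ^ p ^ i = 1 := by simpa using congrArg Subtype.val hi
  have h2 : a = 1 := by
    have h3 := pow_gcd_eq_one.mpr ⟨h1, hi'⟩
    rwa [(ho.pow_right i).gcd_eq_one, pow_one] at h3
  rw [h2, one_mul] at hstep
  exact (mul_inv_eq_iff_eq_mul.mp hstep).symm

/-- Conjugation by `g` agrees on `X` with conjugation by an element of `N(A)`. -/
def AgreesWithNormalizer (A : Subgroup G) (X : Set G) (g : G) : Prop :=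
  ∃ y ∈ normalizer (A : Set G), ∀ a ∈ X, g * a * g⁻¹ = y * a * y⁻¹

variable [Finite G] [hp : Fact p.Prime] {P : Sylow p G} {A : Subgroup G}

/-- The decomposition of `N(D)` for a tame intersection `D`. -/
theorem exists_decomp (hA : IsMulCommutative ↥A) (hsc : Cfsg.IsStronglyClosed A (P : Subgroup G))
    {D : Subgroup G} (hDP : D ≤ P)
    (htame : ¬ p ∣ ((P : Subgroup G) ⊓ normalizer (D : Set G)).relIndex (normalizer (D : Set G)))
    {x : G} (hx : x ∈ normalizer (D : Set G)) :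
    ∃ m ∈ normalizer (D : Set G),
      m ∈ normalizer ((A ⊓ normalizer (D : Set G) : Subgroup G) : Set G) ∧
      ∀ d ∈ D, x * d * x⁻¹ = m * d * m⁻¹ := by
  set N := normalizer (D : Set G) with hN
  set A₀ := A ⊓ D with hA₀def
  set B := A ⊓ N with hB
  have hA₀ : ∀ n ∈ N, ∀ a ∈ A₀, n * a * n⁻¹ ∈ A₀ := fun n hn a ha => by
    have h1 : n * a * n⁻¹ ∈ D := (mem_normalizer_iff.mp hn a).mp ha.2
    exact ⟨hsc.2 a ha.1 n (hDP h1), h1⟩
  set K := chainStab D A₀ with hK
  have hKN : K ≤ N := fun k hk => hk.1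
  have hBK : B ≤ K := by
    intro b hb
    obtain ⟨hb1, hb2⟩ := Subgroup.mem_inf.mp hb
    refine ⟨hb2, fun a ha => ?_, fun d hd => ⟨?_, ?_⟩⟩
    · rw [mul_inv_eq_iff_eq_mul]
      exact congrArg Subtype.val (hA.is_comm.comm ⟨b, hb1⟩ ⟨a, ha.1⟩)
    · have h := mul_mem hb1 (CfsgLib.Closed.conj_mem_of_mem hsc (inv_mem hb1) (hDP hd))
      simpa [mul_assoc] using h
    · exact mul_mem ((mem_normalizer_iff.mp hb2 d).mp hd) (D.inv_mem hd)
  -- `P ⊓ K` is a Sylow subgroup of `K`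
  obtain ⟨S, hS⟩ := (P.isPGroup'.comap_subtype (K := K)).exists_le_sylow
  have hSP : ∀ s : ↥K, s ∈ (S : Subgroup ↥K) → (s : G) ∈ (P : Subgroup G) := by
    set S' := (S : Subgroup ↥K).map K.subtype with hS'
    obtain ⟨SN, hSN⟩ := ((S.isPGroup'.map K.subtype).comap_subtype (K := N)).exists_le_sylow
    let PN : Sylow p N := Sylow.ofCard _ (card_subgroupOf_eq P htame)
    obtain ⟨y, hy⟩ := MulAction.exists_smul_eq N SN PN
    have hsub : S'.map (MulAut.conj (y : G)).toMonoidHom ≤ (P : Subgroup G) ⊓ K := by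
      rintro _ ⟨s, ⟨s', hs', rfl⟩, rfl⟩
      refine ⟨?_, conj_mem_chainStab hA₀ s'.2 y.2⟩
      have h1 : (⟨(s' : G), hKN s'.2⟩ : N) ∈ (SN : Subgroup N) := hSN ⟨s', hs', rfl⟩
      have h2 : y * ⟨(s' : G), hKN s'.2⟩ * y⁻¹ ∈ (PN : Subgroup N) := by
        rw [← hy, Sylow.coe_subgroup_smul]
        exact ⟨_, h1, rfl⟩
      exact mem_subgroupOf.1 h2
    have hle : (P : Subgroup G) ⊓ K ≤ S' := fun s hs =>
      ⟨⟨s, hs.2⟩, hS (mem_subgroupOf.2 hs.1), rfl⟩
    have hcard : Nat.card S' ≤ Nat.card ↥((P : Subgroup G) ⊓ K) := by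
      rw [← card_map_of_injective (K := S') (f := (MulAut.conj (y : G)).toMonoidHom)
        (MulAut.conj (y : G)).injective]
      exact card_le_of_le hsub
    intro s hs
    have h : (s : G) ∈ (P : Subgroup G) ⊓ K := by
      rw [eq_of_le_of_card_ge hle hcard]
      exact ⟨s, hs, rfl⟩
    exact h.1
  -- move `x B x⁻¹` into `P`
  have hxB : B.map (MulAut.conj x).toMonoidHom ≤ K := by
    rintro _ ⟨b, hb, rfl⟩
    exact conj_mem_chainStab hA₀ (hBK hb) hx
  have hBp : IsPGroup p ↥((B.map (MulAut.conj x).toMonoidHom).subgroupOf K) :=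
    ((P.isPGroup'.to_le (inf_le_left.trans hsc.1)).map _).comap_subtype (K := K)
  obtain ⟨S₁, hS₁⟩ := hBp.exists_le_sylow
  obtain ⟨k, hk⟩ := MulAction.exists_smul_eq ↥K S₁ S
  -- split `k` as an element of `P` times an element centralizing `D`
  have hC : ((centralizer (D : Set G)).subgroupOf K).Normal := by
    refine ⟨fun c hc g => ?_⟩
    rw [mem_subgroupOf, mem_centralizer_iff] at hc ⊢
    intro d hd
    have h := hc _ ((mem_normalizer_iff''.mp g.2.1 d).mp hd)
    simp only [Subgroup.coe_mul, InvMemClass.coe_inv]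
    calc d * ((g : G) * c * (g : G)⁻¹) = g * (((g : G)⁻¹ * d * g) * c) * (g : G)⁻¹ := by group
      _ = g * (c * ((g : G)⁻¹ * d * g)) * (g : G)⁻¹ := by rw [h]
      _ = (g : G) * c * (g : G)⁻¹ * d := by group
  have hQ : IsPGroup p (↥K ⧸ (centralizer (D : Set G)).subgroupOf K) := by
    intro q
    obtain ⟨g, rfl⟩ := QuotientGroup.mk'_surjective _ q
    obtain ⟨a, m, hm, he⟩ := Nat.exists_eq_pow_mul_and_not_dvd (orderOf_pos (g : G)).ne' p
      hp.out.ne_one
    refine ⟨a, ?_⟩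
    rw [← map_pow, QuotientGroup.mk'_apply, QuotientGroup.eq_one_iff, mem_subgroupOf]
    refine mem_centralizer_of_chainStab (P.isPGroup'.to_le hDP) inf_le_right (g ^ p ^ a).2 ?_
    rw [SubgroupClass.coe_pow, orderOf_pow' _ (pow_ne_zero _ hp.out.ne_zero), he,
      Nat.gcd_mul_right_left, Nat.mul_div_cancel_left _ (pow_pos hp.out.pos a)]
    exact (hp.out.coprime_iff_not_dvd.mpr hm).symm
  obtain ⟨u, hu, huk⟩ : ∃ u ∈ (S : Subgroup ↥K),
      QuotientGroup.mk' ((centralizer (D : Set G)).subgroupOf K) u = QuotientGroup.mk' _ k := by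
    have h : (S.mapSurjective (f := QuotientGroup.mk' ((centralizer (D : Set G)).subgroupOf K))
        (QuotientGroup.mk'_surjective _)).toSubgroup = ⊤ :=
      ((S.mapSurjective (f := QuotientGroup.mk' ((centralizer (D : Set G)).subgroupOf K))
        (QuotientGroup.mk'_surjective _)).3
        (hQ.of_equiv Subgroup.topEquiv.symm) le_top).symm
    have h2 : QuotientGroup.mk' ((centralizer (D : Set G)).subgroupOf K) k ∈
        (S.mapSurjective (f := QuotientGroup.mk' ((centralizer (D : Set G)).subgroupOf K))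
          (QuotientGroup.mk'_surjective _)).toSubgroup := h ▸ mem_top _
    exact h2
  have hc : ((u⁻¹ * k : ↥K) : G) ∈ centralizer (D : Set G) :=
    mem_subgroupOf.mp (QuotientGroup.eq.mp huk)
  refine ⟨(u : G)⁻¹ * k * x, mul_mem (mul_mem (inv_mem (hKN u.2)) (hKN k.2)) hx, ?_, fun d hd => ?_⟩
  · have hmB : ∀ b ∈ B, (k : G) * (x * b * x⁻¹) * (k : G)⁻¹ ∈ B := by
      intro b hb
      have h1 : (⟨x * b * x⁻¹, hxB ⟨b, hb, rfl⟩⟩ : ↥K) ∈ (S₁ : Subgroup ↥K) :=
        hS₁ (mem_subgroupOf.mpr ⟨b, hb, rfl⟩)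
      have h2 : k * ⟨x * b * x⁻¹, hxB ⟨b, hb, rfl⟩⟩ * k⁻¹ ∈ (S : Subgroup ↥K) := by
        rw [← hk, Sylow.coe_subgroup_smul]
        exact ⟨_, h1, rfl⟩
      have h3 := hSP _ h2
      obtain ⟨hb1, hb2⟩ := Subgroup.mem_inf.mp hb
      refine Subgroup.mem_inf.mpr ⟨?_, mul_mem (mul_mem (hKN k.2) (mul_mem (mul_mem hx hb2)
        (inv_mem hx))) (inv_mem (hKN k.2))⟩
      have h4 := hsc.2 b hb1 ((k : G) * x) (by simpa [mul_assoc] using h3)
      simpa [mul_assoc] using h4
    have hmap : B.map (MulAut.conj ((u : G)⁻¹ * k * x)).toMonoidHom ≤ B := by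
      rintro _ ⟨b, hb, rfl⟩
      have h1 := hmB b hb
      have h2 := CfsgLib.Closed.conj_mem_of_mem hsc h1.1 (inv_mem (hSP u hu))
      refine ⟨by simpa [mul_assoc] using h2, ?_⟩
      simpa [mul_assoc] using mul_mem (mul_mem (inv_mem (hKN u.2)) h1.2) (hKN u.2)
    rw [mem_normalizer_iff_map_conj_eq]
    exact eq_of_le_of_card_ge hmap (card_map_of_injective (MulAut.conj _).injective).ge
  · have h := mem_centralizer_iff.mp hc (x * d * x⁻¹) ((mem_normalizer_iff.mp hx d).mp hd)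
    simp only [Subgroup.coe_mul, InvMemClass.coe_inv] at h
    calc x * d * x⁻¹ = x * d * x⁻¹ * ((u : G)⁻¹ * k) * ((u : G)⁻¹ * k)⁻¹ := by group
      _ = (u : G)⁻¹ * k * (x * d * x⁻¹) * ((u : G)⁻¹ * k)⁻¹ := by rw [h]
      _ = _ := by group

omit hp in
theorem normalizer_le_of_stronglyClosed (hsc : Cfsg.IsStronglyClosed A (P : Subgroup G)) :
    normalizer ((P : Subgroup G) : Set G) ≤ normalizer (A : Set G) := by
  intro n hn
  rw [mem_normalizer_iff_map_conj_eq]
  refine eq_of_le_of_card_ge ?_ (card_map_of_injective (MulAut.conj n).injective).ge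
  rintro _ ⟨a, ha, rfl⟩
  exact hsc.2 a ha n ((mem_normalizer_iff.mp hn a).mp (hsc.1 ha))

/-- Conjugations between subgroups of `P` are induced by `N(A)`. -/
theorem exists_mem_normalizer_conj_eq (hA : IsMulCommutative ↥A)
    (hsc : Cfsg.IsStronglyClosed A (P : Subgroup G)) (D : Subgroup G) (hDP : D ≤ P) (g : G)
    (hg : ∀ d ∈ D, g * d * g⁻¹ ∈ (P : Subgroup G)) :
    AgreesWithNormalizer A (D : Set G) g := by
  induction hn : Nat.card G - Nat.card D using Nat.strong_induction_on generalizing D g with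
  | _ n ih =>
  have hbig : ∀ E : Subgroup G, E ≤ P → Nat.card D < Nat.card E → ∀ y : G,
      (∀ e ∈ E, y * e * y⁻¹ ∈ (P : Subgroup G)) → AgreesWithNormalizer A (E : Set G) y := by
    intro E hEP hlt y hy
    refine ih _ ?_ E hEP y hy rfl
    have := Subgroup.card_le_card_group E
    omega
  have tame : ∀ E : Subgroup G, E ≤ P → Nat.card E = Nat.card D →
      ¬ p ∣ ((P : Subgroup G) ⊓ normalizer (E : Set G)).relIndex (normalizer (E : Set G)) →
      ∀ x ∈ normalizer (E : Set G), AgreesWithNormalizer A (E : Set G) x := by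
    intro E hEP hcard ht x hx
    obtain ⟨m, hmE, hmB, hm⟩ := exists_decomp hA hsc hEP ht hx
    by_cases hBE : A ⊓ normalizer (E : Set G) ≤ E
    · -- then `A ≤ E`
      have hAE : A ≤ E := by
        by_contra hne
        have hAN : A ⊔ E ≤ P := sup_le hsc.1 hEP
        have hlt := lt_inf_normalizer (P.isPGroup'.to_le hAN)
          (lt_of_le_of_ne le_sup_right fun e => hne (le_sup_left.trans e.ge))
        refine hlt.not_ge ?_
        intro z hz0
        obtain ⟨hz, hzN⟩ := Subgroup.mem_inf.mp hz0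
        have hEA : E ≤ normalizer (A : Set G) := (hEP.trans le_normalizer).trans
          (normalizer_le_of_stronglyClosed hsc)
        rw [← SetLike.mem_coe, coe_mul_of_right_le_normalizer_left A E hEA] at hz
        obtain ⟨a, ha, e, he, rfl⟩ := Set.mem_mul.mp hz
        have haN : a ∈ normalizer (E : Set G) := by
          simpa using mul_mem hzN (inv_mem (le_normalizer he))
        exact mul_mem (hBE ⟨ha, haN⟩) he
      refine ⟨m, ?_, hm⟩
      rwa [inf_eq_left.mpr (hAE.trans le_normalizer)] at hmB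
    · set E' := E ⊔ (A ⊓ normalizer (E : Set G)) with hE'
      have hlt : Nat.card D < Nat.card E' := hcard ▸ card_lt_card_of_lt (lt_of_le_of_ne le_sup_left
        fun e => hBE (le_sup_right.trans e.ge))
      have hmE' : m ∈ normalizer (E' : Set G) := by
        rw [mem_normalizer_iff_map_conj_eq] at hmE hmB ⊢
        rw [hE', Subgroup.map_sup, hmE, hmB]
      have hE'P : E' ≤ P := sup_le hEP (inf_le_left.trans hsc.1)
      obtain ⟨y, hy, hye⟩ := hbig E' hE'P hlt m
        fun e he => hE'P ((mem_normalizer_iff.mp hmE' e).mp he)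
      exact ⟨y, hy, fun d hd => (hm d hd).trans (hye d (le_sup_left (a := E) hd))⟩
  have chain : ∀ (X : Set G) (h : G), FusionChain P X h → ∀ E : Subgroup G, (E : Set G) ⊆ X →
      Nat.card E = Nat.card D → AgreesWithNormalizer A (E : Set G) h⁻¹ := by
    intro X h hc
    induction hc with
    | nil X => exact fun E _ _ => ⟨1, one_mem _, fun a _ => by simp⟩
    | cons X Q x g hX ht hx _ ih' =>
      intro E hEX hcard
      have hEI : E ≤ (P : Subgroup G) ⊓ (Q : Subgroup G) := fun e he => hX (hEX he)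
      obtain ⟨y, hy, hye⟩ : AgreesWithNormalizer A (E : Set G) x⁻¹ := by
        rcases lt_or_eq_of_le hEI with hlt | heq
        · obtain ⟨y, hy, hye⟩ := hbig _ inf_le_left (hcard ▸ card_lt_card_of_lt hlt) x⁻¹
            fun e he => ((mem_normalizer_iff.mp (inv_mem hx) e).mp he).1
          exact ⟨y, hy, fun e he => hye e (hEI he)⟩
        · exact tame E (heq ▸ inf_le_left) hcard (heq ▸ ht.1) x⁻¹ (heq ▸ inv_mem hx)
      obtain ⟨z, hz, hze⟩ := ih' (E.map (MulAut.conj x⁻¹).toMonoidHom)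
        (by rintro _ ⟨e, he, rfl⟩; exact ⟨e, hEX he, by simp⟩)
        (by rw [card_map_of_injective (MulAut.conj x⁻¹).injective, hcard])
      refine ⟨z * y, mul_mem hz hy, fun e he => ?_⟩
      have h1 := hze _ (mem_map_of_mem (MulAut.conj x⁻¹).toMonoidHom he)
      simp only [MulEquiv.coe_toMonoidHom, MulAut.conj_apply] at h1
      calc (x * g)⁻¹ * e * (x * g)⁻¹⁻¹ = g⁻¹ * (x⁻¹ * e * x⁻¹⁻¹) * g⁻¹⁻¹ := by group
        _ = z * (x⁻¹ * e * x⁻¹⁻¹) * z⁻¹ := h1
        _ = z * (y * e * y⁻¹) * z⁻¹ := by rw [hye e he]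
        _ = z * y * e * (z * y)⁻¹ := by group
  obtain ⟨h, hh, hhP⟩ := exists_fusionChain_smul P (g⁻¹ • P)
  obtain ⟨y, hy, hye⟩ := chain _ h hh D (fun d hd => ⟨hDP hd, by
    show d ∈ ((g⁻¹ • P : Sylow p G) : Subgroup G)
    rw [mem_smul_iff, inv_inv]; exact hg d hd⟩) rfl
  have hn' : g * h ∈ normalizer ((P : Subgroup G) : Set G) := by
    rw [← mul_smul, ← mul_inv_rev] at hhP
    exact Sylow.smul_eq_iff_mem_normalizer.mp (by rw [← inv_smul_eq_iff.mp hhP])
  refine ⟨g * h * y, mul_mem (normalizer_le_of_stronglyClosed hsc hn') hy, fun d hd => ?_⟩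
  calc g * d * g⁻¹ = g * h * (h⁻¹ * d * h⁻¹⁻¹) * (g * h)⁻¹ := by group
    _ = g * h * (y * d * y⁻¹) * (g * h)⁻¹ := by rw [hye d hd]
    _ = _ := by group

end CfsgLib.LocalEven
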